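import Mathlib
import Cfsg.Prelude.Def_TwoFusion
import Cfsg.Agent.H21.Basic
import Cfsg.Agent.H9.DihedralSylow
import Cfsg.Agent.FourGraph.Basic
import Cfsg.Agent.Alperin.Basic
import Cfsg.Agent.H4.Dihedral
import Cfsg.Agent.H4.KleinFourSylow
import Cfsg.Agent.S0111

/-!
# Dihedral Sylow 2-subgroups: four-subgroups and their automizers
-/

set_option autoImplicit false
set_option linter.style.haveILetI false
set_option linter.unusedSectionVars false

namespace Cfsg.Agent.DihSyl

open Subgroup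

variable {X : Type*} [Group X]

/-- `S` is dihedral with rotation `r` of order `m` and reflection `s`. -/
structure DihData (S : Subgroup X) (r s : X) (m : ℕ) : Prop where
  r_mem : r ∈ S
  s_mem : s ∈ S
  orderOf_r : orderOf r = m
  s_sq : s * s = 1
  conj : s * r * s⁻¹ = r⁻¹
  s_notMem : s ∉ zpowers r
  cases : ∀ x ∈ S, x ∈ zpowers r ∨ s * x ∈ zpowers r
  two_group : IsPGroup 2 S
  two_le : 2 ≤ m

theorem exists_dihData {S : Subgroup X} (hS : IsPGroup 2 S) {m : ℕ} (hm : 2 ≤ m)
    (e : S ≃* DihedralGroup m) : ∃ r s : X, DihData S r s m := by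
  haveI : NeZero m := ⟨by omega⟩
  set f : DihedralGroup m →* X := S.subtype.comp e.symm.toMonoidHom with hf
  have hfinj : Function.Injective f := S.subtype_injective.comp e.symm.injective
  have hmem : ∀ x, f x ∈ S := fun x => (e.symm x).2
  have hsurj : ∀ x ∈ S, ∃ y, f y = x := by
    intro x hx
    refine ⟨e ⟨x, hx⟩, ?_⟩
    show ((e.symm (e ⟨x, hx⟩) : S) : X) = x
    rw [MulEquiv.symm_apply_apply]
  have hz : ∀ x, f x ∈ zpowers (f (DihedralGroup.r 1)) ↔ x ∈ zpowers (DihedralGroup.r (1 : ZMod m)) := by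
    intro x
    rw [← MonoidHom.map_zpowers]
    constructor
    · rintro ⟨y, hy, hyx⟩
      rwa [← hfinj hyx]
    · intro h
      exact ⟨x, h, rfl⟩
  have hrot : ∀ i : ZMod m, DihedralGroup.r i ∈ zpowers (DihedralGroup.r (1 : ZMod m)) := by
    intro i
    refine ⟨(i.val : ℤ), ?_⟩
    show (DihedralGroup.r (1 : ZMod m)) ^ (i.val : ℤ) = DihedralGroup.r i
    rw [DihedralGroup.r_one_zpow]
    simp
  refine ⟨f (DihedralGroup.r 1), f (DihedralGroup.sr 0), hmem _, hmem _, ?_, ?_, ?_, ?_, ?_, hS, hm⟩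
  · rw [orderOf_injective f hfinj, DihedralGroup.orderOf_r_one]
  · rw [← map_mul, DihedralGroup.sr_mul_self, map_one]
  · rw [← map_inv, ← map_inv, ← map_mul, ← map_mul]
    congr 1
    simp [DihedralGroup.sr_mul_r, DihedralGroup.sr_mul_sr]
  · rw [hz]
    rintro ⟨k, hk⟩
    have hk' : (DihedralGroup.r (1 : ZMod m)) ^ k = DihedralGroup.sr 0 := hk
    rw [DihedralGroup.r_one_zpow] at hk'
    cases hk'
  · intro x hx
    obtain ⟨y, rfl⟩ := hsurj x hx
    rw [hz, ← map_mul, hz]
    cases y with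
    | r i => exact Or.inl (hrot i)
    | sr i =>
      right
      rw [DihedralGroup.sr_mul_sr]
      exact hrot _

namespace DihData

variable {S : Subgroup X} {r s : X} {m : ℕ}

theorem s_inv (h : DihData S r s m) : s⁻¹ = s := inv_eq_of_mul_eq_one_left h.s_sq

theorem C_le (h : DihData S r s m) : zpowers r ≤ S := by
  rw [zpowers_le]; exact h.r_mem

theorem conj_zpow (h : DihData S r s m) {y : X} (hy : y ∈ zpowers r) : s * y * s⁻¹ = y⁻¹ := by
  obtain ⟨k, rfl⟩ := hy
  show s * r ^ k * s⁻¹ = (r ^ k)⁻¹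
  rw [← _root_.conj_zpow, h.conj, inv_zpow]

/-- Elements outside `⟨r⟩` are `s c`. -/
theorem exists_eq (h : DihData S r s m) {x : X} (hx : x ∈ S) (hxC : x ∉ zpowers r) :
    ∃ c ∈ zpowers r, x = s * c := by
  refine ⟨s * x, (h.cases x hx).resolve_left hxC, ?_⟩
  rw [← mul_assoc, h.s_sq, one_mul]

theorem mul_notMem (h : DihData S r s m) {c : X} (hc : c ∈ zpowers r) : s * c ∉ zpowers r := by
  intro hsc
  apply h.s_notMem
  have := mul_mem hsc (inv_mem hc)
  rwa [mul_inv_cancel_right] at this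

theorem sq_eq_one (h : DihData S r s m) {x : X} (hx : x ∈ S) (hxC : x ∉ zpowers r) :
    x * x = 1 := by
  obtain ⟨c, hc, rfl⟩ := h.exists_eq hx hxC
  have h1 := h.conj_zpow hc
  rw [h.s_inv] at h1
  calc s * c * (s * c) = (s * c * s) * c := by simp only [mul_assoc]
    _ = 1 := by rw [h1, inv_mul_cancel]

theorem ne_one (_h : DihData S r s m) {x : X} (hxC : x ∉ zpowers r) : x ≠ 1 := by
  rintro rfl
  exact hxC (one_mem _)

theorem orderOf_eq_two (h : DihData S r s m) {x : X} (hx : x ∈ S) (hxC : x ∉ zpowers r) :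
    orderOf x = 2 :=
  orderOf_eq_prime (by rw [pow_two]; exact h.sq_eq_one hx hxC) (h.ne_one hxC)

theorem mul_mem_C (h : DihData S r s m) {x y : X} (hx : x ∈ S) (hxC : x ∉ zpowers r)
    (hy : y ∈ S) (hyC : y ∉ zpowers r) : x * y ∈ zpowers r := by
  obtain ⟨c, hc, rfl⟩ := h.exists_eq hx hxC
  obtain ⟨d, hd, rfl⟩ := h.exists_eq hy hyC
  have h1 := h.conj_zpow hc
  rw [h.s_inv] at h1
  have h2 : s * c * (s * d) = (s * c * s) * d := by simp only [mul_assoc]
  rw [h2, h1]
  exact mul_mem (inv_mem hc) hd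

theorem conj_C (h : DihData S r s m) {x y : X} (hx : x ∈ S) (hxC : x ∉ zpowers r)
    (hy : y ∈ zpowers r) : x * y * x⁻¹ = y⁻¹ := by
  obtain ⟨c, hc, rfl⟩ := h.exists_eq hx hxC
  have h1 : c * y * c⁻¹ = y := by
    obtain ⟨i, rfl⟩ := hc
    obtain ⟨j, rfl⟩ := hy
    show r ^ i * r ^ j * (r ^ i)⁻¹ = r ^ j
    rw [← zpow_add, add_comm, zpow_add, mul_inv_cancel_right]
  have h2 : s * c * y * (s * c)⁻¹ = s * (c * y * c⁻¹) * s⁻¹ := by group
  rw [h2, h1, h.conj_zpow hy]

theorem comm_C (_h : DihData S r s m) {x y : X} (hx : x ∈ zpowers r) (hy : y ∈ zpowers r) :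
    x * y = y * x := by
  obtain ⟨i, rfl⟩ := hx
  obtain ⟨j, rfl⟩ := hy
  show r ^ i * r ^ j = r ^ j * r ^ i
  rw [← zpow_add, ← zpow_add, add_comm]

/-- `m` is a power of two. -/
theorem exists_pow (h : DihData S r s m) : ∃ k : ℕ, m = 2 ^ (k + 1) := by
  obtain ⟨k, hk⟩ := IsPGroup.iff_orderOf.1 h.two_group ⟨r, h.r_mem⟩
  rw [Subgroup.orderOf_mk, h.orderOf_r] at hk
  rcases k with _ | k
  · rw [pow_zero] at hk
    have := h.two_le
    omega
  · exact ⟨k, hk⟩

/-- The central involution. -/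
theorem exists_z (h : DihData S r s m) : ∃ z ∈ zpowers r, orderOf z = 2 ∧
    (∀ y ∈ zpowers r, y * y = 1 → y = 1 ∨ y = z) ∧ ∀ x ∈ S, x * z = z * x := by
  obtain ⟨k, hk⟩ := h.exists_pow
  have hmpos : 0 < 2 ^ k := by positivity
  have hr : r ^ (2 * 2 ^ k) = 1 := by
    rw [← pow_succ', ← hk, ← h.orderOf_r, pow_orderOf_eq_one]
  have hz1 : r ^ (2 ^ k) ≠ 1 := by
    intro hc
    have h1 := orderOf_dvd_of_pow_eq_one hc
    rw [h.orderOf_r, hk] at h1
    have := Nat.le_of_dvd hmpos h1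
    rw [pow_succ] at this
    omega
  have hzz : r ^ (2 ^ k) * r ^ (2 ^ k) = 1 := by
    rw [← pow_add, ← two_mul, hr]
  have hzmem : r ^ (2 ^ k) ∈ zpowers r := Subgroup.pow_mem _ (mem_zpowers r) _
  refine ⟨r ^ (2 ^ k), hzmem, orderOf_eq_prime (by rw [pow_two, hzz]) hz1, ?_, ?_⟩
  · intro y hy hyy
    rw [Subgroup.mem_zpowers_iff] at hy
    obtain ⟨i, rfl⟩ := hy
    rw [← zpow_add, ← two_mul] at hyy
    have h1 := orderOf_dvd_iff_zpow_eq_one.2 hyy
    rw [h.orderOf_r, hk] at h1
    have h2 : ((2 ^ (k + 1) : ℕ) : ℤ) = 2 * ((2 ^ k : ℕ) : ℤ) := by push_cast; ring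
    rw [h2] at h1
    have h3 : ((2 ^ k : ℕ) : ℤ) ∣ i := (mul_dvd_mul_iff_left (by norm_num)).1 h1
    obtain ⟨j, rfl⟩ := h3
    rcases Int.even_or_odd j with ⟨l, hl⟩ | ⟨l, hl⟩
    · left
      have h4 : ((2 ^ k : ℕ) : ℤ) * j = ((2 * 2 ^ k : ℕ) : ℤ) * l := by rw [hl]; push_cast; ring
      rw [h4, zpow_mul, zpow_natCast, hr, one_zpow]
    · right
      have h4 : ((2 ^ k : ℕ) : ℤ) * j = ((2 * 2 ^ k : ℕ) : ℤ) * l + ((2 ^ k : ℕ) : ℤ) := by
        rw [hl]; push_cast; ring
      rw [h4, zpow_add, zpow_mul, zpow_natCast, hr, one_zpow, one_mul, zpow_natCast]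
  · intro x hx
    by_cases hxC : x ∈ zpowers r
    · exact h.comm_C hxC hzmem
    · have h1 := h.conj_C hx hxC hzmem
      have h2 : (r ^ (2 ^ k))⁻¹ = r ^ (2 ^ k) := inv_eq_of_mul_eq_one_left hzz
      rw [h2] at h1
      exact mul_inv_eq_iff_eq_mul.1 h1

end DihData

section Finite

variable [Finite X] {S : Subgroup X} {r s : X} {m : ℕ}

theorem isKleinFour_of_card {Q : Subgroup X} {z x : X} (hz1 : z ≠ 1) (hx1 : x ≠ 1) (hzx : z ≠ x)
    (hzz : z * z = 1) (hxx : x * x = 1) (hc : z * x = x * z) (hzQ : z ∈ Q) (hxQ : x ∈ Q)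
    (hall : ∀ y ∈ Q, y = 1 ∨ y = z ∨ y = x ∨ y = z * x) : IsKleinFour Q := by
  have hQ : Q = FourGraph.fourSubgroup z x hzz hxx hc := by
    apply le_antisymm
    · intro y hy
      exact hall y hy
    · intro y hy
      rcases FourGraph.mem_fourSubgroup.1 hy with rfl | rfl | rfl | rfl
      · exact one_mem _
      · exact hzQ
      · exact hxQ
      · exact mul_mem hzQ hxQ
  rw [hQ]
  exact FourGraph.isKleinFour_fourSubgroup hz1 hx1 hzx

/-- Odd order elements normalizing a subgroup of a dihedral 2-group centralize it, unless it is a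
four-group. -/
theorem centralizes_or_kleinFour (h : DihData S r s m) {Q : Subgroup X} (hQ : Q ≤ S) {g : X}
    (hgQ : g ∈ Subgroup.normalizer (Q : Set X)) (hg : Odd (orderOf g)) :
    IsKleinFour Q ∨ g ∈ Subgroup.centralizer (Q : Set X) := by
  have hconj : ∀ x ∈ Q, g * x * g⁻¹ ∈ Q := fun x hx => (Subgroup.mem_normalizer_iff.1 hgQ x).1 hx
  set Q₀ := Q ⊓ zpowers r with hQ₀
  have hQ₀Q : Q₀ ≤ Q := inf_le_left
  have hQ₀C : Q₀ ≤ zpowers r := inf_le_right
  haveI : IsCyclic Q₀ := isCyclic_of_le hQ₀C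
  obtain ⟨a, ha⟩ := (Subgroup.isCyclic_iff_exists_zpowers_eq_top Q₀).1 inferInstance
  have haQ₀ : a ∈ Q₀ := by rw [← ha]; exact mem_zpowers a
  have haQ : a ∈ Q := hQ₀Q haQ₀
  by_cases haa : a * a = 1
  · -- every element of `Q` squares to one
    have hall : ∀ y ∈ Q₀, y = 1 ∨ y = a := by
      intro y hy
      rw [← ha, Subgroup.mem_zpowers_iff] at hy
      obtain ⟨k, rfl⟩ := hy
      rcases Int.even_or_odd k with ⟨l, hl⟩ | ⟨l, hl⟩
      · left; rw [hl, ← two_mul, zpow_mul, zpow_two, haa, one_zpow]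
      · right; rw [hl, zpow_add, zpow_mul, zpow_two, haa, one_zpow, one_mul, zpow_one]
    by_cases hex : ∃ x ∈ Q, x ∉ zpowers r
    · obtain ⟨x, hxQ, hxC⟩ := hex
      have hxx := h.sq_eq_one (hQ hxQ) hxC
      have hx1 := h.ne_one hxC
      have hcover : ∀ y ∈ Q, y = 1 ∨ y = a ∨ y = x ∨ y = a * x := by
        intro y hy
        by_cases hyC : y ∈ zpowers r
        · rcases hall y ⟨hy, hyC⟩ with h1 | h1
          · exact Or.inl h1
          · exact Or.inr (Or.inl h1)
        · have h1 : y * x ∈ Q₀ := ⟨mul_mem hy hxQ, h.mul_mem_C (hQ hy) hyC (hQ hxQ) hxC⟩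
          rcases hall _ h1 with h2 | h2
          · right; right; left
            rw [mul_eq_one_iff_eq_inv] at h2
            rw [h2, inv_eq_of_mul_eq_one_left hxx]
          · right; right; right
            rw [← h2, mul_assoc, hxx, mul_one]
      by_cases ha1 : a = 1
      · right
        rw [Subgroup.mem_centralizer_iff]
        intro y hy
        have h1 : ∀ y ∈ Q, y = 1 ∨ y = x := by
          intro y hy
          rcases hcover y hy with h2 | h2 | h2 | h2
          · exact Or.inl h2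
          · exact Or.inl (h2.trans ha1)
          · exact Or.inr h2
          · right; rw [h2, ha1, one_mul]
        rcases h1 y hy with rfl | rfl
        · simp
        · rcases h1 _ (hconj y hy) with h2 | h2
          · exfalso
            apply hx1
            have := congrArg (fun w => g⁻¹ * w * g) h2
            simpa [mul_assoc] using this
          · rw [mul_inv_eq_iff_eq_mul] at h2
            exact h2.symm
      · left
        have hax : a ≠ x := by rintro rfl; exact hxC (hQ₀C haQ₀)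
        have hac : a * x = x * a := by
          have h1 := h.conj_C (hQ hxQ) hxC (hQ₀C haQ₀)
          rw [inv_eq_of_mul_eq_one_left haa] at h1
          exact (mul_inv_eq_iff_eq_mul.1 h1).symm
        exact isKleinFour_of_card ha1 hx1 hax haa hxx hac haQ hxQ hcover
    · right
      push Not at hex
      rw [Subgroup.mem_centralizer_iff]
      intro y hy
      have hyQ₀ : ∀ y ∈ Q, y ∈ Q₀ := fun y hy => ⟨hy, hex y hy⟩
      rcases hall y (hyQ₀ y hy) with rfl | rfl
      · simp
      · rcases hall _ (hyQ₀ _ (hconj y hy)) with h2 | h2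
        · have : y = 1 := by
            have := congrArg (fun w => g⁻¹ * w * g) h2
            simpa [mul_assoc] using this
          rw [this]; simp
        · rw [mul_inv_eq_iff_eq_mul] at h2
          exact h2.symm
  · right
    obtain ⟨n, hn⟩ := IsPGroup.iff_orderOf.1 h.two_group ⟨a, hQ haQ⟩
    rw [Subgroup.orderOf_mk] at hn
    have h1 : g * a * g⁻¹ ∈ Q₀ := by
      refine ⟨hconj a haQ, ?_⟩
      by_contra hc
      apply haa
      have h2 := h.sq_eq_one (hQ (hconj a haQ)) hc
      have h3 : g * (a * a) * g⁻¹ = 1 := by rw [← h2]; group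
      have := congrArg (fun w => g⁻¹ * w * g) h3
      simpa [mul_assoc] using this
    rw [← ha, Subgroup.mem_zpowers_iff] at h1
    obtain ⟨k, hk⟩ := h1
    have h2 : g * a * g⁻¹ = a := H9.centralizes_of_cyclic_two hn hg hk.symm
    have hga : Commute g a := mul_inv_eq_iff_eq_mul.1 h2
    have hc : ∀ y ∈ Q₀, g * y = y * g := by
      intro y hy
      rw [← ha, Subgroup.mem_zpowers_iff] at hy
      obtain ⟨i, rfl⟩ := hy
      exact hga.zpow_right i
    rw [Subgroup.mem_centralizer_iff]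
    intro x hx
    by_cases hxC : x ∈ zpowers r
    · exact (hc x ⟨hx, hxC⟩).symm
    · refine (H9.comm_of_commutator_mem_centralized (h.two_group.to_le (hQ₀Q.trans hQ)) hg hc ?_).symm
      have hxinv : x⁻¹ = x := inv_eq_of_mul_eq_one_left (h.sq_eq_one (hQ hx) hxC)
      refine Subgroup.mem_inf.2 ⟨mul_mem (inv_mem hx) (hconj x hx), ?_⟩
      rw [hxinv]
      apply h.mul_mem_C (hQ hx) hxC (hQ (hconj x hx))
      intro hc'
      apply hxC
      have h3 : g * x * g⁻¹ ∈ Q₀ := ⟨hconj x hx, hc'⟩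
      have h4 := hc _ h3
      have h5 : g * x * g⁻¹ = x := by
        have h6 : g * (g * x * g⁻¹) * g⁻¹ = g * x * g⁻¹ := by rw [h4]; group
        have h7 : g⁻¹ * (g * (g * x * g⁻¹) * g⁻¹) * g = g⁻¹ * (g * x * g⁻¹) * g := by rw [h6]
        have h8 : g⁻¹ * (g * (g * x * g⁻¹) * g⁻¹) * g = g * x * g⁻¹ := by group
        have h9 : g⁻¹ * (g * x * g⁻¹) * g = x := by group
        rw [h8, h9] at h7
        exact h7
      rw [← h5]
      exact hc'

end Finite

section Sylow

variable [Finite X] {S : Sylow 2 X} {r s : X} {m : ℕ}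

/-- An element of odd order some power of which with exponent a power of two lies in `H` lies in
`H`. -/
theorem mem_of_pow_mem {H : Subgroup X} {g : X} (hg : Odd (orderOf g)) {k : ℕ}
    (h : g ^ (2 ^ k) ∈ H) : g ∈ H := by
  have h1 : g ∈ zpowers (g ^ (2 ^ k)) := by
    rw [mem_zpowers_pow_iff]
    exact Nat.Coprime.pow_left k (Nat.coprime_two_left.2 hg)
  exact (zpowers_le.2 h) h1

theorem mem_sup_of_le_normalizer {A B : Subgroup X} (h : A ≤ Subgroup.normalizer (B : Set X))
    {x : X} (hx : x ∈ A ⊔ B) : ∃ a ∈ A, ∃ b ∈ B, a * b = x := by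
  have h1 : x ∈ ((A ⊔ B : Subgroup X) : Set X) := hx
  rw [Subgroup.coe_mul_of_left_le_normalizer_right A B h] at h1
  exact h1

theorem normalizer_le_normalizer_centralizer' (U : Subgroup X) :
    Subgroup.normalizer (U : Set X) ≤
      Subgroup.normalizer ((Subgroup.centralizer (U : Set X) : Subgroup X) : Set X) :=
  (Subgroup.normal_subgroupOf_iff_le_normalizer (Subgroup.centralizer_le_normalizer _)).1
    (Subgroup.normal_subgroupOf_centralizer_normalizer _)

/-- A product `y c` with `c ∈ C` normalized by the 2-group `Y ∋ y`: some 2-power lies in `C`. -/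
theorem exists_pow_mem {Y C : Subgroup X} (hY : IsPGroup 2 Y)
    (hYC : Y ≤ Subgroup.normalizer (C : Set X)) {y c : X} (hy : y ∈ Y) (hc : c ∈ C) :
    ∃ k : ℕ, (y * c) ^ (2 ^ k) ∈ C := by
  have key : ∀ n : ℕ, ∃ c' ∈ C, (y * c) ^ n = y ^ n * c' := by
    intro n
    induction n with
    | zero => exact ⟨1, one_mem _, by simp⟩
    | succ n ih =>
      obtain ⟨c', hc', h⟩ := ih
      refine ⟨y⁻¹ * c' * y * c, mul_mem ?_ hc, ?_⟩
      · have := (Subgroup.mem_normalizer_iff.1 (hYC (inv_mem hy)) c').1 hc'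
        rwa [inv_inv] at this
      · rw [pow_succ, h, pow_succ]
        group
  obtain ⟨k, hk⟩ := IsPGroup.iff_orderOf.1 hY ⟨y, hy⟩
  rw [Subgroup.orderOf_mk] at hk
  obtain ⟨c', hc', h⟩ := key (2 ^ k)
  refine ⟨k, ?_⟩
  rw [h, ← hk, pow_orderOf_eq_one, one_mul]
  exact hc'

/-- If `N(U) = C(U) N_S(U)` then odd order elements normalizing `U` centralize it. -/
theorem centralizes_of_eq {U : Subgroup X}
    (hU : Subgroup.normalizer (U : Set X) =
      Subgroup.centralizer (U : Set X) ⊔ ((S : Subgroup X) ⊓ Subgroup.normalizer (U : Set X)))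
    {g : X} (hgU : g ∈ Subgroup.normalizer (U : Set X)) (hg : Odd (orderOf g)) :
    g ∈ Subgroup.centralizer (U : Set X) := by
  have hNC := normalizer_le_normalizer_centralizer' U
  have hg' := hgU
  rw [hU, sup_comm] at hg'
  obtain ⟨y, hy, c, hc, hyc⟩ := mem_sup_of_le_normalizer (inf_le_right.trans hNC) hg'
  obtain ⟨k, hk⟩ := exists_pow_mem (S.isPGroup'.to_le inf_le_left) (inf_le_right.trans hNC) hy hc
  rw [hyc] at hk
  exact mem_of_pow_mem hg hk

/-- With a normal 2-complement, `N(U) = C(U) N_S(U)` for `U ≤ S`. -/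
theorem normalizer_eq_of_hasNPC (h : Cfsg.HasNormalPComplement 2 X) {U : Subgroup X}
    (hU : U ≤ (S : Subgroup X)) : Subgroup.normalizer (U : Set X) =
      Subgroup.centralizer (U : Set X) ⊔ ((S : Subgroup X) ⊓ Subgroup.normalizer (U : Set X)) := by
  obtain ⟨N, hN, hNc, k, hk⟩ := Transfer.hasNPC_iff_exists.1 h
  have hcomp := Transfer.isComplement'_of_card_of_index hNc hk S
  apply le_antisymm _ (sup_le (Subgroup.centralizer_le_normalizer _) inf_le_right)
  intro n hn
  obtain ⟨⟨⟨a, ha⟩, ⟨b, hb⟩⟩, hab⟩ := hcomp.2 n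
  have hab' : a * b = n := hab
  have key : ∀ v ∈ U, n * v * n⁻¹ = b * v * b⁻¹ := by
    intro v hv
    have h1 : n * v * n⁻¹ ∈ (S : Subgroup X) := hU ((Subgroup.mem_normalizer_iff.1 hn v).1 hv)
    have h2 : b * v * b⁻¹ ∈ (S : Subgroup X) := mul_mem (mul_mem hb (hU hv)) (inv_mem hb)
    have h3 : (n * v * n⁻¹) * (b * v * b⁻¹)⁻¹ ∈ N := by
      rw [← hab']
      have h4 : a * b * v * (a * b)⁻¹ * (b * v * b⁻¹)⁻¹ =
          a * ((b * v * b⁻¹) * a⁻¹ * (b * v * b⁻¹)⁻¹) := by group
      rw [h4]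
      exact mul_mem ha (hN.conj_mem _ (inv_mem ha) _)
    have h5 : (n * v * n⁻¹) * (b * v * b⁻¹)⁻¹ ∈ (S : Subgroup X) := mul_mem h1 (inv_mem h2)
    have h6 := Subgroup.disjoint_def.1 hcomp.disjoint h3 h5
    exact mul_inv_eq_one.1 h6
  have hbn : b ∈ Subgroup.normalizer (U : Set X) := by
    apply H21.mem_normalizer_of_map_conj_le
    rintro _ ⟨v, hv, rfl⟩
    show b * v * b⁻¹ ∈ U
    rw [← key v hv]
    exact (Subgroup.mem_normalizer_iff.1 hn v).1 hv
  have hc : n * b⁻¹ ∈ Subgroup.centralizer (U : Set X) := by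
    rw [Subgroup.mem_centralizer_iff]
    intro v hv
    have h1 : b⁻¹ * v * b ∈ U := by
      have := (Subgroup.mem_normalizer_iff.1 (inv_mem hbn) v).1 hv
      rwa [inv_inv] at this
    have h2 := key _ h1
    have h3 : n * b⁻¹ * v * (n * b⁻¹)⁻¹ = v := by
      have h4 : n * b⁻¹ * v * (n * b⁻¹)⁻¹ = n * (b⁻¹ * v * b) * n⁻¹ := by group
      rw [h4, h2]; group
    exact (mul_inv_eq_iff_eq_mul.1 h3).symm
  have h7 : n = n * b⁻¹ * b := by group
  rw [h7]
  exact mul_mem (Subgroup.mem_sup_left hc) (Subgroup.mem_sup_right (Subgroup.mem_inf.2 ⟨hb, hbn⟩))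

/-- Frobenius-type criterion for dihedral Sylow 2-subgroups. -/
theorem hasNPC_of_four (h : DihData (S : Subgroup X) r s m)
    (hF : ∀ U : Subgroup X, U ≤ S → IsKleinFour U → ∀ g ∈ Subgroup.normalizer (U : Set X),
      Odd (orderOf g) → g ∈ Subgroup.centralizer (U : Set X)) : Cfsg.HasNormalPComplement 2 X := by
  apply Transfer.hasNPC_of_frobenius
  apply Transfer.frobenius_hyp_of_sylow S
  intro Q hQ g hg hgc
  have hodd : Odd (orderOf g) := Nat.coprime_two_right.1 hgc
  rcases centralizes_or_kleinFour h hQ hg hodd with hk | hc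
  · exact hF Q hQ hk g hg hodd
  · exact hc

/-- Every involution is conjugate to `z` if there is no subgroup of index 2. -/
theorem conj_of_no_index_two (h : DihData (S : Subgroup X) r s m) (hX : ∀ H : Subgroup X, H.index ≠ 2)
    {z : X} (hzu : ∀ y ∈ zpowers r, y * y = 1 → y = 1 ∨ y = z)
    {t : X} (ht : orderOf t = 2) : ∃ g : X, g * t * g⁻¹ = z := by
  obtain ⟨g, hg⟩ := H4.exists_conj_mem_sylow S (x := t) (k := 1) (by
    rw [pow_one, ← ht, pow_orderOf_eq_one])
  have htg : orderOf (g * t * g⁻¹) = 2 := by rw [H4.orderOf_conj', ht]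
  have fin : ∀ u : X, orderOf u = 2 → u ∈ zpowers r → u = z := by
    intro u hu huC
    rcases hzu u huC (H4.mul_self_of_orderOf_two hu) with h1 | h1
    · rw [h1, orderOf_one] at hu; omega
    · exact h1
  by_cases hC : g * t * g⁻¹ ∈ zpowers r
  · exact ⟨g, fin _ htg hC⟩
  · have hidx : (zpowers r).relIndex (S : Subgroup X) = 2 := by
      rw [Subgroup.relIndex, Subgroup.index_eq_two_iff_exists_notMem_and']
      refine ⟨⟨s, h.s_mem⟩, fun hc => h.s_notMem hc, fun b => ?_⟩
      rcases h.cases b b.2 with h1 | h1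
      · exact Or.inr h1
      · exact Or.inl h1
    rcases S0111.result S (zpowers r) h.C_le hidx (g * t * g⁻¹) htg hg hC with ⟨M, hM, hMi, -⟩ | ⟨k, hk⟩
    · exact absurd hMi (hX M)
    · refine ⟨k * g, ?_⟩
      have h1 : k * g * t * (k * g)⁻¹ = k * (g * t * g⁻¹) * k⁻¹ := by group
      rw [h1]
      exact fin _ (by rw [H4.orderOf_conj', htg]) hk

theorem isConj_of_no_index_two (h : DihData (S : Subgroup X) r s m)
    (hX : ∀ H : Subgroup X, H.index ≠ 2) {a b : X} (ha : orderOf a = 2) (hb : orderOf b = 2) :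
    IsConj a b := by
  obtain ⟨z, -, -, hzu, -⟩ := h.exists_z
  obtain ⟨g, hg⟩ := conj_of_no_index_two h hX hzu ha
  obtain ⟨k, hk⟩ := conj_of_no_index_two h hX hzu hb
  rw [isConj_iff]
  refine ⟨k⁻¹ * g, ?_⟩
  have h1 : k⁻¹ * g * a * (k⁻¹ * g)⁻¹ = k⁻¹ * (g * a * g⁻¹) * k := by group
  rw [h1, hg, ← hk]
  group

/-- If all involutions are conjugate there is no subgroup of index two. -/
theorem no_index_two_of_isConj (h : DihData (S : Subgroup X) r s m)
    (hc : ∀ a b : X, orderOf a = 2 → orderOf b = 2 → IsConj a b) (H : Subgroup X) :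
    H.index ≠ 2 := by
  intro hH
  haveI : H.Normal := Subgroup.normal_of_index_eq_two hH
  have hs2 : orderOf s = 2 := h.orderOf_eq_two h.s_mem h.s_notMem
  have hsrS : s * r ∈ (S : Subgroup X) := mul_mem h.s_mem h.r_mem
  have hsrC : s * r ∉ zpowers r := h.mul_notMem (mem_zpowers r)
  have hsr2 : orderOf (s * r) = 2 := h.orderOf_eq_two hsrS hsrC
  -- an involution in `H`
  obtain ⟨z, hzC, hz2, -, hzc⟩ := h.exists_z
  have hex : ∃ t ∈ H, orderOf t = 2 := by
    by_cases hs : s ∈ H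
    · exact ⟨s, hs, hs2⟩
    by_cases hz : z ∈ H
    · exact ⟨z, hz, hz2⟩
    refine ⟨s * z, (Subgroup.mul_mem_iff_of_index_two hH).2 (by tauto), ?_⟩
    exact h.orderOf_eq_two (mul_mem h.s_mem (h.C_le hzC)) (h.mul_notMem hzC)
  obtain ⟨t, htH, ht⟩ := hex
  have hall : ∀ u : X, orderOf u = 2 → u ∈ H := by
    intro u hu
    obtain ⟨g, rfl⟩ := isConj_iff.1 (hc t u ht hu)
    exact (inferInstance : H.Normal).conj_mem t htH g
  have hsH := hall s hs2
  have hrH : r ∈ H := by
    have := mul_mem (inv_mem hsH) (hall _ hsr2)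
    rwa [inv_mul_cancel_left] at this
  have hSH : (S : Subgroup X) ≤ H := by
    intro x hx
    rcases h.cases x hx with h1 | h1
    · exact (zpowers_le.2 hrH) h1
    · have h2 := (zpowers_le.2 hrH) h1
      have := mul_mem (inv_mem hsH) h2
      rwa [inv_mul_cancel_left] at this
  have h1 := Subgroup.index_dvd_of_le hSH
  rw [hH] at h1
  exact S.not_dvd_index h1

/-- If all involutions are conjugate there is no isolated involution. -/
theorem not_isolated_of_isConj (h : DihData (S : Subgroup X) r s m)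
    (hc : ∀ a b : X, orderOf a = 2 → orderOf b = 2 → IsConj a b) (t : X) :
    ¬ Cfsg.IsIsolatedInvolution t := by
  rintro ⟨ht, hiso⟩
  obtain ⟨z, hzC, hz2, -, hzc⟩ := h.exists_z
  have hs2 : orderOf s = 2 := h.orderOf_eq_two h.s_mem h.s_notMem
  obtain ⟨g, hg⟩ := isConj_iff.1 (hc t z ht hz2)
  obtain ⟨k, hk⟩ := isConj_iff.1 (hc t s ht hs2)
  have h1 : Commute t ((g⁻¹ * k) * t * (g⁻¹ * k)⁻¹) := by
    have h2 : (g⁻¹ * k) * t * (g⁻¹ * k)⁻¹ = g⁻¹ * s * g := by rw [← hk]; group
    have h3 : t = g⁻¹ * z * g := by rw [← hg]; group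
    rw [h2, h3]
    show g⁻¹ * z * g * (g⁻¹ * s * g) = g⁻¹ * s * g * (g⁻¹ * z * g)
    have h4 := hzc s h.s_mem
    have h5 : g⁻¹ * (z * s) * g = g⁻¹ * (s * z) * g := by rw [h4]
    simpa [mul_assoc] using h5
  have h2 := hiso _ h1
  apply h.s_notMem
  have h3 : s = z := by
    rw [← hk, ← hg]
    have : k * t * k⁻¹ = g * ((g⁻¹ * k) * t * (g⁻¹ * k)⁻¹) * g⁻¹ := by group
    rw [this, h2]
  rw [h3]
  exact hzC

/-- A four-group with automizer of order divisible by 3 has its involutions conjugate. -/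
theorem isConj_of_three_dvd {U : Subgroup X} (hU : IsKleinFour U)
    (h3 : 3 ∣ (Subgroup.centralizer (U : Set X)).relIndex (Subgroup.normalizer (U : Set X)))
    {a b : X} (ha : a ∈ U) (ha1 : a ≠ 1) (hb : b ∈ U) (hb1 : b ≠ 1) : IsConj a b := by
  classical
  set C := Subgroup.centralizer (U : Set X) with hC
  set N := Subgroup.normalizer (U : Set X) with hN
  haveI : (C.subgroupOf N).Normal := Subgroup.normal_subgroupOf_centralizer_normalizer _
  haveI : Fact (Nat.Prime 3) := ⟨by norm_num⟩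
  obtain ⟨q, hq⟩ := exists_prime_orderOf_dvd_card' (G := N ⧸ C.subgroupOf N) 3 h3
  obtain ⟨x, rfl⟩ := QuotientGroup.mk'_surjective _ q
  have hx3 : (x : X) ^ 3 ∈ C := by
    have h1 : (QuotientGroup.mk' (C.subgroupOf N) x) ^ 3 = 1 := by rw [← hq, pow_orderOf_eq_one]
    rw [← map_pow] at h1
    have h2 : x ^ 3 ∈ C.subgroupOf N := (QuotientGroup.eq_one_iff _).1 h1
    exact h2
  have hxC : (x : X) ∉ C := by
    intro hc
    have h1 : QuotientGroup.mk' (C.subgroupOf N) x = 1 := (QuotientGroup.eq_one_iff _).2 hc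
    rw [h1, orderOf_one] at hq
    omega
  obtain ⟨y, hyN⟩ := x
  change y ^ 3 ∈ C at hx3
  change y ∉ C at hxC
  have hconj : ∀ v ∈ U, y * v * y⁻¹ ∈ U := fun v hv => (Subgroup.mem_normalizer_iff.1 hyN v).1 hv
  have hcard : Nat.card U = 4 := hU.card_four
  have hsq : ∀ v ∈ U, v * v = 1 := by
    intro v hv
    have h1 : (⟨v, hv⟩ : U) * ⟨v, hv⟩ = 1 := IsKleinFour.mul_self _
    exact congrArg Subtype.val h1
  have hcomm : ∀ v ∈ U, ∀ w ∈ U, v * w = w * v := by
    intro v hv w hw
    have h1 := hsq _ (mul_mem hv hw)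
    have h2 := hsq v hv
    have h3 := hsq w hw
    have h4 : v * w = (v * w)⁻¹ := eq_inv_of_mul_eq_one_left h1
    rw [mul_inv_rev, inv_eq_of_mul_eq_one_left h2, inv_eq_of_mul_eq_one_left h3] at h4
    exact h4
  -- no five elements
  have hfive : ∀ F : Finset X, (∀ v ∈ F, v ∈ U) → F.card ≤ 4 := by
    intro F hF
    rw [← hcard]
    have h1 : Nat.card F ≤ Nat.card U :=
      Nat.card_le_card_of_injective (fun v : F => (⟨v, hF v v.2⟩ : U))
        (fun v w hvw => Subtype.ext (congrArg (fun z : U => (z : X)) hvw))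
    rwa [Nat.card_eq_fintype_card, Fintype.card_coe] at h1
  have hinj : ∀ v w : X, y * v * y⁻¹ = y * w * y⁻¹ → v = w := by
    intro v w h
    exact mul_left_cancel (mul_right_cancel h)
  have hfix : ∀ v ∈ U, v ≠ 1 → y * v * y⁻¹ ≠ v := by
    intro v hv hv1 hyv
    obtain ⟨w, hw, hyw⟩ : ∃ w ∈ U, y * w * y⁻¹ ≠ w := by
      by_contra hcon
      push Not at hcon
      apply hxC
      rw [hC, Subgroup.mem_centralizer_iff]
      intro w hw
      exact (mul_inv_eq_iff_eq_mul.1 (hcon w hw)).symm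
    have hw1 : w ≠ 1 := by rintro rfl; apply hyw; group
    have hwv : w ≠ v := by rintro rfl; exact hyw hyv
    have hvw1 : v * w ≠ 1 := by
      intro h
      apply hwv
      rw [mul_eq_one_iff_eq_inv, inv_eq_of_mul_eq_one_left (hsq w hw)] at h
      exact h.symm
    have hyw' : y * w * y⁻¹ = v * w := by
      by_contra hne
      have h1 : y * w * y⁻¹ ≠ 1 := by
        intro h
        apply hw1
        apply hinj w 1
        rw [h]; group
      have h2 : y * w * y⁻¹ ≠ v := by
        intro h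
        apply hwv
        apply hinj w v
        rw [h, hyv]
      have h5 := hfive {1, v, w, v * w, y * w * y⁻¹} (by
        intro u hu
        simp only [Finset.mem_insert, Finset.mem_singleton] at hu
        rcases hu with rfl | rfl | rfl | rfl | rfl
        · exact one_mem _
        · exact hv
        · exact hw
        · exact mul_mem hv hw
        · exact hconj w hw)
      have hvw_v : v * w ≠ v := fun h => hw1 (mul_eq_left.1 h)
      have hvw_w : v * w ≠ w := fun h => hv1 (mul_eq_right.1 h)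
      rw [Finset.card_insert_of_notMem (by
          simp only [Finset.mem_insert, Finset.mem_singleton, not_or]
          exact ⟨hv1.symm, hw1.symm, hvw1.symm, h1.symm⟩),
        Finset.card_insert_of_notMem (by
          simp only [Finset.mem_insert, Finset.mem_singleton, not_or]
          exact ⟨hwv.symm, hvw_v.symm, h2.symm⟩),
        Finset.card_insert_of_notMem (by
          simp only [Finset.mem_insert, Finset.mem_singleton, not_or]
          exact ⟨hvw_w.symm, hyw.symm⟩),
        Finset.card_insert_of_notMem (by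
          simp only [Finset.mem_singleton]
          exact fun h => hne h.symm), Finset.card_singleton] at h5
      omega
    -- `y ^ 3` moves `w`
    have h6 : y ^ 3 * w * (y ^ 3)⁻¹ = v * w := by
      have e1 : y ^ 3 * w * (y ^ 3)⁻¹ = y * (y * (y * w * y⁻¹) * y⁻¹) * y⁻¹ := by
        simp only [pow_succ, pow_zero, one_mul, mul_inv_rev, mul_assoc]
      have e2 : y * (v * w) * y⁻¹ = (y * v * y⁻¹) * (y * w * y⁻¹) := by group
      have e3 : v * (v * w) = w := by rw [← mul_assoc, hsq v hv, one_mul]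
      rw [e1, hyw', e2, hyv, hyw', e3, hyw']
    have h7 : y ^ 3 * w * (y ^ 3)⁻¹ = w := by
      have := Subgroup.mem_centralizer_iff.1 hx3 w hw
      rw [← this, mul_inv_cancel_right]
    rw [h7] at h6
    exact hv1 (mul_eq_right.1 h6.symm)
  have hne1 : ∀ v : X, v ≠ 1 → y * v * y⁻¹ ≠ 1 := by
    intro v hv h
    apply hv
    apply hinj v 1
    rw [h]; group
  have hya := hconj a ha
  have hyya := hconj _ hya
  have e1 := hfix a ha ha1
  have e2 := hfix _ hya (hne1 a ha1)
  have e3 : y * (y * a * y⁻¹) * y⁻¹ ≠ a := by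
    intro h
    have h6 : y ^ 3 * a * (y ^ 3)⁻¹ = y * a * y⁻¹ := by
      have e1 : y ^ 3 * a * (y ^ 3)⁻¹ = y * (y * (y * a * y⁻¹) * y⁻¹) * y⁻¹ := by
        simp only [pow_succ, pow_zero, one_mul, mul_inv_rev, mul_assoc]
      rw [e1, h]
    have h7 : y ^ 3 * a * (y ^ 3)⁻¹ = a := by
      have := Subgroup.mem_centralizer_iff.1 hx3 a ha
      rw [← this, mul_inv_cancel_right]
    rw [h7] at h6
    exact e1 h6.symm
  by_cases hba : b = a
  · rw [hba]
  by_cases hbya : b = y * a * y⁻¹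
  · exact isConj_iff.2 ⟨y, hbya.symm⟩
  by_cases hbyya : b = y * (y * a * y⁻¹) * y⁻¹
  · exact isConj_iff.2 ⟨y * y, by rw [hbyya]; group⟩
  exfalso
  have h5 := hfive {1, a, y * a * y⁻¹, y * (y * a * y⁻¹) * y⁻¹, b} (by
    intro u hu
    simp only [Finset.mem_insert, Finset.mem_singleton] at hu
    rcases hu with rfl | rfl | rfl | rfl | rfl
    · exact one_mem _
    · exact ha
    · exact hya
    · exact hyya
    · exact hb)
  rw [Finset.card_insert_of_notMem (by
      simp only [Finset.mem_insert, Finset.mem_singleton, not_or]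
      exact ⟨ha1.symm, (hne1 a ha1).symm, (hne1 _ (hne1 a ha1)).symm, hb1.symm⟩),
    Finset.card_insert_of_notMem (by
      simp only [Finset.mem_insert, Finset.mem_singleton, not_or]
      exact ⟨e1.symm, e3.symm, fun h => hba h.symm⟩),
    Finset.card_insert_of_notMem (by
      simp only [Finset.mem_insert, Finset.mem_singleton, not_or]
      exact ⟨e2.symm, fun h => hbya h.symm⟩),
    Finset.card_insert_of_notMem (by
      simp only [Finset.mem_singleton]
      exact fun h => hbyya h.symm), Finset.card_singleton] at h5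
  omega

end Sylow

end Cfsg.Agent.DihSyl
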