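import Mathlib
import Cfsg.Agent.DihSyl.Basic

/-!
# Conjugacy classes of four-subgroups for dihedral Sylow 2-subgroups
-/

set_option autoImplicit false
set_option linter.style.haveILetI false
set_option linter.unusedSectionVars false

namespace Cfsg.Agent.DihSyl

open Subgroup Alperin

variable {X : Type*} [Group X] [Finite X]

/-- If all odd order elements of `N` lie in `C ⊴ N` and `Y` has odd index in `N` then `N = C Y`. -/
theorem le_sup_of_odd {N C Y : Subgroup X} (hCN : C ≤ N)
    (hNC : N ≤ Subgroup.normalizer (C : Set X)) (hY : ¬ 2 ∣ Y.relIndex N)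
    (hodd : ∀ g ∈ N, Odd (orderOf g) → g ∈ C) : N ≤ C ⊔ Y := by
  haveI : (C.subgroupOf N).Normal := (Subgroup.normal_subgroupOf_iff_le_normalizer hCN).2 hNC
  have h1 : IsPGroup 2 (N ⧸ C.subgroupOf N) := by
    intro q
    obtain ⟨x, rfl⟩ := QuotientGroup.mk'_surjective _ q
    obtain ⟨k, o, ho, hko⟩ := Nat.exists_eq_two_pow_mul_odd (orderOf_pos x).ne'
    refine ⟨k, ?_⟩
    rw [← map_pow]
    refine (QuotientGroup.eq_one_iff _).2 ?_
    rw [Subgroup.mem_subgroupOf]
    apply hodd _ (x ^ 2 ^ k).2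
    rw [Subgroup.orderOf_coe, orderOf_pow, hko]
    have : (2 ^ k * o) / (2 ^ k * o).gcd (2 ^ k) = o := by
      rw [Nat.gcd_mul_right_left]
      exact Nat.mul_div_cancel_left o (by positivity)
    rwa [this]
  have h2 : (C ⊔ Y).relIndex N ∣ C.relIndex N := Subgroup.relIndex_dvd_of_le_left N le_sup_left
  have h3 : (C ⊔ Y).relIndex N ∣ Y.relIndex N := Subgroup.relIndex_dvd_of_le_left N le_sup_right
  obtain ⟨n, hn⟩ := IsPGroup.iff_card.1 h1
  have h4 : C.relIndex N = 2 ^ n := hn
  rw [h4] at h2
  obtain ⟨j, -, hj⟩ := (Nat.dvd_prime_pow Nat.prime_two).1 h2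
  rw [hj] at h3
  rcases j with _ | j
  · rw [pow_zero, Subgroup.relIndex_eq_one] at hj
    exact hj
  · exact absurd ((dvd_pow_self 2 (by omega)).trans h3) hY

variable {S : Sylow 2 X} {r s : X} {m : ℕ}

/-- The parity condition: the elements of `A` outside `⟨r⟩` lie in `s⟨r²⟩`. -/
def EvenType (r s : X) (A : Set X) : Prop := ∀ y ∈ A, y ∉ zpowers r → s * y ∈ zpowers (r ^ 2)

theorem zpowers_sq_le (r : X) : zpowers (r ^ 2) ≤ zpowers r := by
  rw [zpowers_le]; exact Subgroup.pow_mem _ (mem_zpowers r) 2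

theorem sq_mem {r c : X} (hc : c ∈ zpowers r) : c * c ∈ zpowers (r ^ 2) := by
  obtain ⟨i, rfl⟩ := hc
  refine ⟨i, ?_⟩
  show (r ^ 2) ^ i = r ^ i * r ^ i
  rw [← zpow_natCast r 2, ← zpow_mul, ← zpow_add]
  congr 1
  push_cast; ring

/-- Invariance under conjugation by elements of `S`. -/
theorem evenType_cimg (h : DihData (S : Subgroup X) r s m) {A : Set X} (hA : A ⊆ (S : Set X))
    (hT : EvenType r s A) {x : X} (hx : x ∈ (S : Subgroup X)) : EvenType r s (cimg x A) := by
  intro y hy hyC
  have hyS : y ∈ (S : Subgroup X) := by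
    have h1 : x * y * x⁻¹ ∈ (S : Subgroup X) := hA (mem_cimg.1 hy)
    have h2 : y = x⁻¹ * (x * y * x⁻¹) * x := by group
    rw [h2]
    exact mul_mem (mul_mem (inv_mem hx) h1) hx
  obtain ⟨c, hc, rfl⟩ := h.exists_eq hyS hyC
  have hsc := h.s_sq
  rw [← mul_assoc, h.s_sq, one_mul]
  have hxy := hT _ (mem_cimg.1 hy)
  by_cases hxC : x ∈ zpowers r
  · have e1 : x * (s * c) * x⁻¹ = s * (c * (x⁻¹ * x⁻¹)) := by
      have h1 := h.conj_zpow hxC
      rw [h.s_inv] at h1
      have h2 : x * s = s * x⁻¹ := by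
        have : s * (s * x * s) = s * x⁻¹ := by rw [h1]
        rw [← this]
        simp only [← mul_assoc, h.s_sq, one_mul]
      rw [← mul_assoc, h2, mul_assoc s, h.comm_C (inv_mem hxC) hc]
      simp only [mul_assoc]
    rw [e1] at hxy
    have h3 : s * (c * (x⁻¹ * x⁻¹)) ∉ zpowers r :=
      h.mul_notMem (mul_mem hc (mul_mem (inv_mem hxC) (inv_mem hxC)))
    have h4 := hxy h3
    rw [← mul_assoc, h.s_sq, one_mul] at h4
    have h5 := mul_mem h4 (inv_mem (sq_mem (inv_mem hxC)))
    rwa [mul_inv_cancel_right] at h5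
  · obtain ⟨d, hd, rfl⟩ := h.exists_eq hx hxC
    have e1 : s * d * (s * c) * (s * d)⁻¹ = s * (c⁻¹ * (d * d)) := by
      have h1 := h.conj_zpow hd
      have h1' := h.conj_zpow hc
      have hdd := h.sq_eq_one hx hxC
      have h3 : (s * d)⁻¹ = s * d := inv_eq_of_mul_eq_one_left hdd
      rw [h3]
      have h4 : s * d * s⁻¹ * (c * (s * d)) = s * (c⁻¹ * (d * d)) := by
        rw [h1]
        have h5 : c * s = s * c⁻¹ := by
          rw [← h1', h.s_inv]
          simp only [← mul_assoc, h.s_sq, one_mul]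
        have h6 : d⁻¹ * (s * (c⁻¹ * d)) = s * (d * (c⁻¹ * d)) := by
          have h7 : d⁻¹ * s = s * d := by
            rw [← h1, h.s_inv]
            simp only [mul_assoc, h.s_sq, mul_one]
          rw [← mul_assoc, h7, mul_assoc]
        rw [← mul_assoc c, h5, mul_assoc s, h6, ← mul_assoc d, h.comm_C hd (inv_mem hc), mul_assoc]
      rw [← h4, h.s_inv]
      simp only [mul_assoc]
    rw [e1] at hxy
    have h3 : s * (c⁻¹ * (d * d)) ∉ zpowers r := h.mul_notMem (mul_mem (inv_mem hc) (mul_mem hd hd))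
    have h4 := hxy h3
    rw [← mul_assoc, h.s_sq, one_mul] at h4
    have h5 := mul_mem h4 (inv_mem (sq_mem hd))
    rw [mul_inv_cancel_right] at h5
    rw [← inv_inv c]
    exact inv_mem h5

theorem cimg_eq_of_centralizes {A : Set X} {c y : X} (hc : ∀ a ∈ A, a * c = c * a) :
    cimg (c * y) A = cimg y A := by
  rw [cimg_mul]
  congr 1
  ext b
  constructor
  · rintro ⟨a, ha, rfl⟩
    have : c⁻¹ * a * c = a := by rw [mul_assoc, hc a ha, inv_mul_cancel_left]
    simpa [this] using ha
  · intro hb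
    refine ⟨b, hb, ?_⟩
    show c⁻¹ * b * c = b
    rw [mul_assoc, hc b hb, inv_mul_cancel_left]

/-- Fusion preserves the parity type of four-subgroups of `S`. -/
theorem evenType_chain (h : DihData (S : Subgroup X) r s m) {A : Set X} {g : X}
    (hch : Chain S A g) : A ⊆ (S : Set X) → (∃ U : Subgroup X, IsKleinFour U ∧ A = U) →
    EvenType r s A → EvenType r s (cimg g A) := by
  induction hch with
  | nil A => intro _ _ hT; rwa [cimg_one]
  | cons A Q x g ht hx hA hch ih =>
    rintro hAS ⟨U, hU, rfl⟩ hT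
    rw [cimg_mul]
    have hxS : cimg x (U : Set X) ⊆ (S : Set X) :=
      (Chain.single ht hx hA).cimg_subset hAS
    apply ih hxS
    · refine ⟨U.map (MulAut.conj x⁻¹).toMonoidHom, ?_, ?_⟩
      · have e : U ≃* U.map (MulAut.conj x⁻¹).toMonoidHom :=
          U.equivMapOfInjective _ (MulAut.conj x⁻¹).injective
        exact ⟨by rw [← Nat.card_congr e.toEquiv]; exact hU.card_four,
          by rw [← Monoid.exponent_eq_of_mulEquiv e]; exact hU.exponent_two⟩
      · ext b
        rw [mem_cimg, SetLike.mem_coe, SetLike.mem_coe, H21.mem_map_conj, inv_inv]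
    · set R : Subgroup X := (S : Subgroup X) ⊓ (Q : Subgroup X) with hR
      have hUR : U ≤ R := hA
      by_cases hall : ∀ g ∈ nInf S Q, Odd (orderOf g) → g ∈ Subgroup.centralizer (R : Set X)
      · have h1 : nInf S Q ≤ Subgroup.centralizer (R : Set X) ⊔ ((S : Subgroup X) ⊓ nInf S Q) :=
          le_sup_of_odd (Subgroup.centralizer_le_normalizer _)
            (normalizer_le_normalizer_centralizer' R) ht.1 hall
        have h2 := h1 hx
        have h3 : (S : Subgroup X) ⊓ nInf S Q ≤
            Subgroup.normalizer ((Subgroup.centralizer (R : Set X) : Subgroup X) : Set X) :=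
          inf_le_right.trans (normalizer_le_normalizer_centralizer' R)
        obtain ⟨y, hy, c, hc, hyc⟩ := mem_sup_of_le_normalizer h3 (by rwa [sup_comm] at h2)
        -- rewrite `x = y c = c' y`
        have hc' : y * c * y⁻¹ ∈ Subgroup.centralizer (R : Set X) :=
          (Subgroup.mem_normalizer_iff.1 (h3 hy) c).1 hc
        have hx' : x = (y * c * y⁻¹) * y := by rw [← hyc]; group
        rw [hx', cimg_eq_of_centralizes]
        · exact evenType_cimg h hAS hT (Subgroup.mem_inf.1 hy).1
        · intro a ha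
          exact Subgroup.mem_centralizer_iff.1 hc' a (hUR ha)
      · push Not at hall
        obtain ⟨k, hk, hko, hkc⟩ := hall
        rcases centralizes_or_kleinFour h (inf_le_left : R ≤ (S : Subgroup X)) hk hko with h1 | h1
        · have h2 : U = R := Subgroup.eq_of_le_of_card_ge hUR
            (by rw [hU.card_four, h1.card_four])
          have h3 : cimg x (U : Set X) = U := by
            ext b
            rw [mem_cimg, SetLike.mem_coe, SetLike.mem_coe, h2]
            exact (Subgroup.mem_normalizer_iff.1 hx b).symm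
          rw [h3]
          exact hT
        · exact absurd h1 hkc

end Cfsg.Agent.DihSyl
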