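import Mathlib
import Cfsg.Prelude.Def_CaseTheorems
import Cfsg.Agent.DihSyl.Basic
import Cfsg.Agent.DihSyl.Fusion
import Cfsg.Agent.H17.Klein

/-!
# Groups with an involution whose centralizer is dihedral of order 8
-/

set_option autoImplicit false
set_option linter.style.haveILetI false
set_option linter.unusedSectionVars false

namespace Cfsg.Agent.DihSyl

open Subgroup

variable {G : Type*} [Group G] [Finite G]

/-- An abelian group of even order has a subgroup of index two. -/
theorem exists_index_two_of_comm {A : Type*} [CommGroup A] [Finite A] (h : 2 ∣ Nat.card A) :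
    ∃ H : Subgroup A, H.index = 2 := by
  set f : A →* A := powMonoidHom 2 with hf
  have : Fact (Nat.Prime 2) := ⟨Nat.prime_two⟩
  obtain ⟨x, hx⟩ := exists_prime_orderOf_dvd_card' 2 h
  have hxk : x ∈ f.ker := by
    rw [MonoidHom.mem_ker, hf, powMonoidHom_apply, ← hx, pow_orderOf_eq_one]
  have h1 : f.range.index = Nat.card f.ker := by
    have h2 := Subgroup.card_mul_index f.range
    have h3 := Subgroup.card_mul_index f.ker
    rw [Subgroup.index_ker] at h3
    have h4 : 0 < Nat.card f.range := Nat.card_pos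
    nlinarith [mul_comm (Nat.card f.ker) (Nat.card f.range)]
  have hp : IsPGroup 2 (A ⧸ f.range) := by
    intro q
    obtain ⟨a, rfl⟩ := QuotientGroup.mk'_surjective _ q
    refine ⟨1, ?_⟩
    rw [pow_one, ← map_pow]
    exact (QuotientGroup.eq_one_iff _).2 ⟨a, rfl⟩
  obtain ⟨k, hk⟩ := IsPGroup.iff_card.1 hp
  have hk0 : k ≠ 0 := by
    rintro rfl
    rw [pow_zero] at hk
    have h5 : f.range.index = 1 := hk
    rw [h1, Subgroup.card_eq_one] at h5
    rw [h5, mem_bot] at hxk
    rw [hxk, orderOf_one] at hx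
    omega
  obtain ⟨n, rfl⟩ := Nat.exists_eq_succ_of_ne_zero hk0
  obtain ⟨K, hK⟩ := Sylow.exists_subgroup_card_pow_prime (G := A ⧸ f.range) 2 (n := n)
    (by rw [hk]; exact pow_dvd_pow _ (Nat.le_succ n))
  refine ⟨K.comap (QuotientGroup.mk' f.range), ?_⟩
  rw [Subgroup.index_comap_of_surjective _ (QuotientGroup.mk'_surjective _)]
  have h6 := Subgroup.card_mul_index K
  rw [hK, hk, pow_succ] at h6
  exact Nat.eq_of_mul_eq_mul_left (by positivity) h6

/-- Sylow 2-subgroup `S = C(z)` dihedral of order 8. -/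
structure CentD8 (S : Sylow 2 G) (r s z : G) : Prop where
  dih : DihData (S : Subgroup G) r s 4
  cent : Subgroup.centralizer ({z} : Set G) = (S : Subgroup G)
  z_eq : z = r ^ 2
  z_ord : orderOf z = 2

theorem exists_centD8 {z : G} (hz : orderOf z = 2)
    (e : Subgroup.centralizer ({z} : Set G) ≃* DihedralGroup 4) :
    ∃ (S : Sylow 2 G) (r s : G), CentD8 S r s z := by
  haveI : Finite (Subgroup.centralizer ({z} : Set G)) := inferInstance
  set C := Subgroup.centralizer ({z} : Set G) with hC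
  have hcard : Nat.card C = 8 := by
    rw [Nat.card_congr e.toEquiv, DihedralGroup.nat_card]
  have hCp : IsPGroup 2 C := IsPGroup.of_card (n := 3) (by rw [hcard]; norm_num)
  obtain ⟨r, s, h⟩ := exists_dihData hCp (by norm_num) e
  have hzC : z ∈ C := by rw [hC, mem_centralizer_singleton_iff]
  have hcomm : ∀ x ∈ C, x * z = z * x := by
    intro x hx
    rw [hC, mem_centralizer_singleton_iff] at hx
    exact hx
  have hr4 : r ^ 4 = 1 := by rw [← h.orderOf_r, pow_orderOf_eq_one]
  have hr2 : r ^ 2 ≠ 1 := by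
    intro h1
    have := orderOf_dvd_of_pow_eq_one h1
    rw [h.orderOf_r] at this
    revert this; decide
  have hz1 : z ≠ 1 := by rintro rfl; rw [orderOf_one] at hz; omega
  have hzr : z ∈ zpowers r := by
    by_contra hcon
    have h1 := h.conj_C hzC hcon (mem_zpowers r)
    apply hr2
    have h2 : z * r * z⁻¹ = r := by rw [← hcomm r h.r_mem, mul_inv_cancel_right]
    rw [h2] at h1
    rw [pow_two]
    nth_rewrite 1 [h1]
    exact inv_mul_cancel r
  have hzz : z * z = 1 := by rw [← pow_two, ← hz, pow_orderOf_eq_one]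
  have hzeq : z = r ^ 2 := by
    obtain ⟨z', hz'C, hz'2, huniq, -⟩ := h.exists_z
    have h1 : z = z' := (huniq z hzr hzz).resolve_left hz1
    have h2 : r ^ 2 = z' := (huniq (r ^ 2) (Subgroup.pow_mem _ (mem_zpowers r) _)
      (by rw [← pow_add]; exact hr4)).resolve_left hr2
    rw [h1, h2]
  obtain ⟨S, hS⟩ := hCp.exists_le_sylow
  have hSC : (S : Subgroup G) = C := by
    by_contra hne
    have hlt : C < (S : Subgroup G) := lt_of_le_of_ne hS (Ne.symm hne)
    have hnil : Group.IsNilpotent (S : Subgroup G) := S.isPGroup'.isNilpotent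
    have hNC : NormalizerCondition (S : Subgroup G) := Group.normalizerCondition_of_isNilpotent
    have hlt' : C.subgroupOf (S : Subgroup G) < ⊤ := by
      rw [lt_top_iff_ne_top]
      intro hc
      rw [Subgroup.subgroupOf_eq_top] at hc
      exact hne (le_antisymm hc hS)
    obtain ⟨x, hxN, hxC⟩ := SetLike.exists_of_lt (hNC _ hlt')
    apply hxC
    rw [Subgroup.mem_subgroupOf, hC, mem_centralizer_singleton_iff]
    -- `x` normalizes `C` hence centralizes `z`
    have hxn : ∀ y ∈ C, (x : G) * y * (x : G)⁻¹ ∈ C := by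
      intro y hy
      have h1 := (Subgroup.mem_normalizer_iff.1 hxN ⟨y, hS hy⟩).1 (by
        rw [Subgroup.mem_subgroupOf]; exact hy)
      rw [Subgroup.mem_subgroupOf] at h1
      exact h1
    have hxn' : ∀ y ∈ C, (x : G)⁻¹ * y * (x : G) ∈ C := by
      intro y hy
      have h1 := (Subgroup.mem_normalizer_iff.1 (inv_mem hxN) ⟨y, hS hy⟩).1 (by
        rw [Subgroup.mem_subgroupOf]; exact hy)
      rw [Subgroup.mem_subgroupOf] at h1
      simpa using h1
    have hw : (x : G) * z * (x : G)⁻¹ ∈ C := hxn z hzC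
    have hwr : (x : G) * z * (x : G)⁻¹ * r = r * ((x : G) * z * (x : G)⁻¹) := by
      have h1 := hcomm _ (hxn' r h.r_mem)
      have h2 : (x : G) * (((x : G)⁻¹ * r * (x : G)) * z) * (x : G)⁻¹ =
        (x : G) * (z * ((x : G)⁻¹ * r * (x : G))) * (x : G)⁻¹ := by rw [h1]
      simp only [mul_assoc, mul_inv_cancel_left] at h2 ⊢
      simpa [mul_assoc] using h2.symm
    have hwz : (x : G) * z * (x : G)⁻¹ ∈ zpowers r := by
      by_contra hcon
      have h1 := h.conj_C hw hcon (mem_zpowers r)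
      apply hr2
      rw [hwr, mul_inv_cancel_right] at h1
      rw [pow_two]
      nth_rewrite 1 [h1]
      exact inv_mul_cancel r
    obtain ⟨z', hz'C, hz'2, huniq, -⟩ := h.exists_z
    have h1 : z = z' := (huniq z hzr hzz).resolve_left hz1
    have h2 : (x : G) * z * (x : G)⁻¹ = z' := (huniq _ hwz (by
      have : (x : G) * z * (x : G)⁻¹ * ((x : G) * z * (x : G)⁻¹) = (x : G) * (z * z) * (x : G)⁻¹ := by
        group
      rw [this, hzz]; group)).resolve_left (by
        intro hc
        apply hz1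
        have := congrArg (fun w => (x : G)⁻¹ * w * (x : G)) hc
        simpa [mul_assoc] using this)
    rw [← h1] at h2
    exact mul_inv_eq_iff_eq_mul.1 h2
  refine ⟨S, r, s, ⟨?_, hSC.symm, hzeq, hz⟩⟩
  rw [hSC]
  exact h

namespace CentD8

variable {S : Sylow 2 G} {r s z : G}

theorem z_ne_one (h : CentD8 S r s z) : z ≠ 1 := by
  rintro rfl
  have := h.z_ord
  rw [orderOf_one] at this
  omega

theorem z_sq (h : CentD8 S r s z) : z * z = 1 := by
  rw [← pow_two, ← h.z_ord, pow_orderOf_eq_one]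

theorem mem_iff (h : CentD8 S r s z) {x : G} : x ∈ (S : Subgroup G) ↔ x * z = z * x := by
  rw [← h.cent, mem_centralizer_singleton_iff]

theorem z_mem (h : CentD8 S r s z) : z ∈ (S : Subgroup G) := h.mem_iff.2 rfl

theorem z_mem_r (h : CentD8 S r s z) : z ∈ zpowers r := by
  rw [h.z_eq]; exact Subgroup.pow_mem _ (mem_zpowers r) _

theorem r_sq_ne (h : CentD8 S r s z) : r * r ≠ 1 := by
  rw [← pow_two, ← h.z_eq]
  exact h.z_ne_one

theorem eq_of_mem_r (h : CentD8 S r s z) {y : G} (hy : y ∈ zpowers r) (hyy : y * y = 1) :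
    y = 1 ∨ y = z := by
  obtain ⟨z', hz'C, hz'2, huniq, -⟩ := h.dih.exists_z
  have h1 : z = z' := (huniq z h.z_mem_r h.z_sq).resolve_left h.z_ne_one
  rw [h1]
  exact huniq y hy hyy

theorem central_eq (h : CentD8 S r s z) {w : G} (hw : w ∈ (S : Subgroup G)) (hwr : w * r = r * w)
    (hws : w * s = s * w) : w = 1 ∨ w = z := by
  have hwz : w ∈ zpowers r := by
    by_contra hcon
    have h1 := h.dih.conj_C hw hcon (mem_zpowers r)
    apply h.r_sq_ne
    rw [hwr, mul_inv_cancel_right] at h1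
    nth_rewrite 1 [h1]
    exact inv_mul_cancel r
  apply h.eq_of_mem_r hwz
  have h1 := h.dih.conj_zpow hwz
  rw [← hws, mul_inv_cancel_right] at h1
  nth_rewrite 1 [h1]
  exact inv_mul_cancel w

theorem normalizer_le (h : CentD8 S r s z) :
    Subgroup.normalizer ((S : Subgroup G) : Set G) ≤ (S : Subgroup G) := by
  intro x hx
  have key : ∀ y ∈ (S : Subgroup G), (x * z * x⁻¹) * y = y * (x * z * x⁻¹) := by
    intro y hy
    have h1 : x⁻¹ * y * x ∈ (S : Subgroup G) := by
      have := (Subgroup.mem_normalizer_iff.1 (inv_mem hx) y).1 hy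
      rwa [inv_inv] at this
    have h2 := h.mem_iff.1 h1
    have h3 : x * (x⁻¹ * y * x * z) * x⁻¹ = x * (z * (x⁻¹ * y * x)) * x⁻¹ := by rw [h2]
    have h4 : x * (x⁻¹ * y * x * z) * x⁻¹ = y * (x * z * x⁻¹) := by group
    have h5 : x * (z * (x⁻¹ * y * x)) * x⁻¹ = (x * z * x⁻¹) * y := by group
    rw [h4, h5] at h3
    exact h3.symm
  have h1 : x * z * x⁻¹ ∈ (S : Subgroup G) := (Subgroup.mem_normalizer_iff.1 hx z).1 h.z_mem
  rcases h.central_eq h1 (key r h.dih.r_mem) (key s h.dih.s_mem) with h2 | h2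
  · exfalso
    apply h.z_ne_one
    have := congrArg (fun w => x⁻¹ * w * x) h2
    simpa [mul_assoc] using this
  · exact h.mem_iff.2 (mul_inv_eq_iff_eq_mul.1 h2)

/-- Odd order elements commuting with a conjugate of `z` are trivial. -/
theorem eq_one_of_commute (h : CentD8 S r s z) {u g : G} (hu : IsConj z u)
    (hg : Odd (orderOf g)) (hc : g * u = u * g) : g = 1 := by
  obtain ⟨c, rfl⟩ := isConj_iff.1 hu
  have h1 : c⁻¹ * g * c ∈ (S : Subgroup G) := by
    rw [h.mem_iff]
    have h2 : c⁻¹ * (g * (c * z * c⁻¹)) * c = c⁻¹ * ((c * z * c⁻¹) * g) * c := by rw [hc]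
    have h3 : c⁻¹ * (g * (c * z * c⁻¹)) * c = c⁻¹ * g * c * z := by group
    have h4 : c⁻¹ * ((c * z * c⁻¹) * g) * c = z * (c⁻¹ * g * c) := by group
    rw [h3, h4] at h2
    exact h2
  have h2 : orderOf (c⁻¹ * g * c) = orderOf g := by
    have := H4.orderOf_conj' (c⁻¹) g
    rwa [inv_inv] at this
  obtain ⟨k, hk⟩ := IsPGroup.iff_orderOf.1 S.isPGroup' ⟨_, h1⟩
  rw [Subgroup.orderOf_mk, h2] at hk
  rw [hk] at hg
  rcases k with _ | k
  · rwa [pow_zero, orderOf_eq_one_iff] at hk
  · exact absurd hg (by rw [Nat.not_odd_iff_even, pow_succ]; exact ⟨2 ^ k, by ring⟩)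

theorem exists_off (h : CentD8 S r s z) {U : Subgroup G} (hU : U ≤ (S : Subgroup G)) (hk : IsKleinFour U) :
    z ∈ U ∧ ∃ u ∈ U, u ∉ zpowers r := by
  classical
  have hsq : ∀ v ∈ U, v * v = 1 := by
    intro v hv
    have h1 : (⟨v, hv⟩ : U) * ⟨v, hv⟩ = 1 := IsKleinFour.mul_self _
    exact congrArg Subtype.val h1
  have hoff : ∃ u ∈ U, u ∉ zpowers r := by
    by_contra hcon
    push Not at hcon
    have h1 : U ≤ zpowers z := by
      intro v hv
      rcases h.eq_of_mem_r (hcon v hv) (hsq v hv) with rfl | rfl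
      · exact one_mem _
      · exact mem_zpowers _
    have h2 := Subgroup.card_le_of_le h1
    rw [Nat.card_zpowers, h.z_ord, hk.card_four] at h2
    omega
  refine ⟨?_, hoff⟩
  obtain ⟨u, huU, hur⟩ := hoff
  obtain ⟨v, hvU, hv⟩ : ∃ v ∈ U, v ∉ zpowers u := by
    by_contra hcon
    push Not at hcon
    have h2 := Subgroup.card_le_of_le (show U ≤ zpowers u from hcon)
    have h3 := orderOf_dvd_of_pow_eq_one (x := u) (n := 2) (by rw [pow_two]; exact hsq u huU)
    rw [Nat.card_zpowers, hk.card_four] at h2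
    have := Nat.le_of_dvd (by norm_num) h3
    omega
  by_cases hvr : v ∈ zpowers r
  · rcases h.eq_of_mem_r hvr (hsq v hvU) with h1 | h1
    · exact absurd (h1 ▸ one_mem _) hv
    · rw [← h1]; exact hvU
  · have h1 := h.dih.mul_mem_C (hU huU) hur (hU hvU) hvr
    have huv : u * v ∈ U := mul_mem huU hvU
    rcases h.eq_of_mem_r h1 (hsq _ huv) with h2 | h2
    · exfalso
      apply hv
      rw [mul_eq_one_iff_eq_inv'] at h2
      rw [h2]
      exact inv_mem (mem_zpowers u)
    · rw [← h2]; exact huv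

/-- `C(U) = U` for the four-subgroups of `S`. -/
theorem centralizer_four (h : CentD8 S r s z) {U : Subgroup G} (hU : U ≤ (S : Subgroup G))
    (hk : IsKleinFour U) : Subgroup.centralizer (U : Set G) = U := by
  obtain ⟨hzU, u, huU, hur⟩ := h.exists_off hU hk
  have hsq : ∀ v ∈ U, v * v = 1 := by
    intro v hv
    have h1 : (⟨v, hv⟩ : U) * ⟨v, hv⟩ = 1 := IsKleinFour.mul_self _
    exact congrArg Subtype.val h1
  apply le_antisymm
  · intro c hc
    rw [Subgroup.mem_centralizer_iff] at hc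
    have hcS : c ∈ (S : Subgroup G) := h.mem_iff.2 (hc z hzU).symm
    have hcu := hc u huU
    have key : ∀ d ∈ (S : Subgroup G), d ∈ zpowers r → u * d = d * u → d ∈ U := by
      intro d hd hdr hdu
      have h1 := h.dih.conj_C (hU huU) hur hdr
      rw [hdu, mul_inv_cancel_right] at h1
      rcases h.eq_of_mem_r hdr (by nth_rewrite 1 [h1]; exact inv_mul_cancel d) with rfl | rfl
      · exact one_mem _
      · exact hzU
    by_cases hcr : c ∈ zpowers r
    · exact key c hcS hcr hcu
    · have h1 := h.dih.mul_mem_C hcS hcr (hU huU) hur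
      have h2 := key (c * u) (mul_mem hcS (hU huU)) h1 (by rw [← mul_assoc, hcu])
      have h3 := mul_mem h2 (inv_mem huU)
      rwa [mul_inv_cancel_right] at h3
  · intro c hc
    rw [Subgroup.mem_centralizer_iff]
    intro v hv
    have h1 := hsq _ (mul_mem hv hc)
    have h2 := hsq v hv
    have h3 := hsq c hc
    have h4 : v * c = (v * c)⁻¹ := eq_inv_of_mul_eq_one_left h1
    rw [mul_inv_rev, inv_eq_of_mul_eq_one_left h2, inv_eq_of_mul_eq_one_left h3] at h4
    exact h4

/-- The situation of a four-group with an automorphism of order three induced in `G`. -/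
structure Four (S : Sylow 2 G) (z : G) (U : Subgroup G) (g : G) : Prop where
  le : U ≤ (S : Subgroup G)
  klein : IsKleinFour U
  g_norm : g ∈ Subgroup.normalizer (U : Set G)
  g_odd : Odd (orderOf g)
  g_ne : g ≠ 1
  z_mem : z ∈ U
  conj : ∀ u ∈ U, u ≠ 1 → IsConj z u
  cent : Subgroup.centralizer (U : Set G) = U

theorem four_of (h : CentD8 S r s z) {U : Subgroup G} (hU : U ≤ (S : Subgroup G)) (hk : IsKleinFour U)
    {g : G} (hgN : g ∈ Subgroup.normalizer (U : Set G)) (hodd : Odd (orderOf g))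
    (hgC : g ∉ Subgroup.centralizer (U : Set G)) : Four S z U g := by
  obtain ⟨hzU, -⟩ := h.exists_off hU hk
  have hg1 : g ≠ 1 := by rintro rfl; exact hgC (one_mem _)
  refine ⟨hU, hk, hgN, hodd, hg1, hzU, ?_, h.centralizer_four hU hk⟩
  have h1 : g * z * g⁻¹ ≠ z := by
    intro hc
    exact hg1 (h.eq_one_of_commute (IsConj.refl z) hodd (mul_inv_eq_iff_eq_mul.1 hc))
  have h2 : g * z * g⁻¹ ∈ U := (Subgroup.mem_normalizer_iff.1 hgN z).1 hzU
  have hodd2 : Odd (orderOf (g * g)) := by
    rw [← pow_two]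
    exact Odd.of_dvd_nat hodd (orderOf_pow_dvd 2)
  have hz' : g * z * g⁻¹ ≠ 1 := by
    intro hc
    apply h.z_ne_one
    have := congrArg (fun w => g⁻¹ * w * g) hc
    simpa [mul_assoc] using this
  have hz'' : g * (g * z * g⁻¹) * g⁻¹ ∈ U := (Subgroup.mem_normalizer_iff.1 hgN _).1 h2
  have h3 : g * (g * z * g⁻¹) * g⁻¹ ≠ z := by
    intro hc
    have h4 : (g * g) * z * (g * g)⁻¹ = z := by
      have : (g * g) * z * (g * g)⁻¹ = g * (g * z * g⁻¹) * g⁻¹ := by group
      rw [this, hc]
    have h5 := h.eq_one_of_commute (IsConj.refl z) hodd2 (mul_inv_eq_iff_eq_mul.1 h4)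
    apply hg1
    have h6 : orderOf g ∣ 2 := orderOf_dvd_of_pow_eq_one (by rw [pow_two]; exact h5)
    rcases (Nat.dvd_prime Nat.prime_two).1 h6 with h7 | h7
    · exact orderOf_eq_one_iff.1 h7
    · rw [h7] at hodd
      exact absurd hodd (by decide)
  have h4 : g * (g * z * g⁻¹) * g⁻¹ ≠ g * z * g⁻¹ := by
    intro hc
    exact h1 (mul_left_cancel (mul_right_cancel hc))
  have h5 : g * (g * z * g⁻¹) * g⁻¹ ≠ 1 := by
    intro hc
    apply hz'
    have := congrArg (fun w => g⁻¹ * w * g) hc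
    simpa [mul_assoc] using this
  -- the elements of `U`
  have hcard : Nat.card U = 4 := hk.card_four
  intro u hu hu1
  have hfin : u = z ∨ u = g * z * g⁻¹ ∨ u = g * (g * z * g⁻¹) * g⁻¹ := by
    classical
    by_contra hcon
    push Not at hcon
    obtain ⟨c1, c2, c3⟩ := hcon
    have hF : ({1, z, g * z * g⁻¹, g * (g * z * g⁻¹) * g⁻¹, u} : Finset G).card = 5 := by
      rw [Finset.card_insert_of_notMem, Finset.card_insert_of_notMem, Finset.card_insert_of_notMem,
        Finset.card_insert_of_notMem, Finset.card_singleton]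
      · simpa using c3.symm
      · simp only [Finset.mem_insert, Finset.mem_singleton, not_or]
        exact ⟨h4.symm, c2.symm⟩
      · simp only [Finset.mem_insert, Finset.mem_singleton, not_or]
        exact ⟨h1.symm, h3.symm, c1.symm⟩
      · simp only [Finset.mem_insert, Finset.mem_singleton, not_or]
        exact ⟨h.z_ne_one.symm, hz'.symm, h5.symm, hu1.symm⟩
    have hsub : ∀ v ∈ ({1, z, g * z * g⁻¹, g * (g * z * g⁻¹) * g⁻¹, u} : Finset G), v ∈ U := by
      intro v hv
      simp only [Finset.mem_insert, Finset.mem_singleton] at hv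
      rcases hv with rfl | rfl | rfl | rfl | rfl
      · exact one_mem _
      · exact hzU
      · exact h2
      · exact hz''
      · exact hu
    have h6 : Nat.card ({1, z, g * z * g⁻¹, g * (g * z * g⁻¹) * g⁻¹, u} : Finset G) ≤ Nat.card U :=
      Nat.card_le_card_of_injective
        (fun v : ({1, z, g * z * g⁻¹, g * (g * z * g⁻¹) * g⁻¹, u} : Finset G) =>
          (⟨v, hsub v v.2⟩ : U))
        (fun v w hvw => Subtype.ext (congrArg (fun z : U => (z : G)) hvw))
    rw [Nat.card_eq_fintype_card, Fintype.card_coe, hF, hcard] at h6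
    omega
  rcases hfin with rfl | rfl | rfl
  · exact IsConj.refl _
  · exact isConj_iff.2 ⟨g, rfl⟩
  · exact isConj_iff.2 ⟨g * g, by group⟩

/-- Without a normal 2-complement there is such a four-group. -/
theorem exists_four (h : CentD8 S r s z) (hn : ¬ Cfsg.HasNormalPComplement 2 G) :
    ∃ (U : Subgroup G) (g : G), Four S z U g := by
  by_contra hcon
  push Not at hcon
  apply hn
  apply hasNPC_of_four h.dih
  intro U hU hk g hg hodd
  by_contra hgC
  exact hcon U g (h.four_of hU hk hg hodd hgC)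

/-- An involution acting fixed-point-freely on a normal subgroup inverts it. -/
theorem inv_of_fpf {N : Subgroup G} [N.Normal] {t : G} (ht : t * t = 1)
    (hf : ∀ n ∈ N, n * t = t * n → n = 1) {n : G} (hn : n ∈ N) : t * n * t⁻¹ = n⁻¹ := by
  have hcoe : ∀ x : N, ((MulAut.conjNormal t x : N) : G) = t * x * t⁻¹ := fun x => by
    rw [MulAut.conjNormal_apply]
  have h1 : MonoidHom.FixedPointFree (MulAut.conjNormal t : MulAut N) := by
    intro x hx
    have h2 := congrArg (fun y : N => (y : G)) hx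
    simp only [hcoe] at h2
    exact Subtype.ext (hf _ x.2 (mul_inv_eq_iff_eq_mul.1 h2).symm)
  have h2 : Function.Involutive (MulAut.conjNormal t : MulAut N) := by
    intro x
    apply Subtype.ext
    rw [hcoe, hcoe]
    have : t * (t * (x : G) * t⁻¹) * t⁻¹ = (t * t) * x * (t * t)⁻¹ := by group
    rw [this, ht]; simp
  have h3 := MonoidHom.FixedPointFree.coe_eq_inv_of_involutive (φ := (MulAut.conjNormal t : MulAut N)) h1 h2
  have h4 := congrFun h3 ⟨n, hn⟩
  have h5 := congrArg (fun y : N => (y : G)) h4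
  simp only [hcoe] at h5
  simpa using h5

theorem Four.sq {U : Subgroup G} {g : G} (hF : Four S z U g) {v : G} (hv : v ∈ U) : v * v = 1 := by
  haveI := hF.klein
  have h1 : (⟨v, hv⟩ : U) * ⟨v, hv⟩ = 1 := IsKleinFour.mul_self _
  exact congrArg Subtype.val h1

/-- Normal subgroups of odd order are trivial. -/
theorem normal_odd (h : CentD8 S r s z) {U : Subgroup G} {g : G} (hF : Four S z U g)
    {N : Subgroup G} [N.Normal] (hN : Odd (Nat.card N)) : N = ⊥ := by
  rw [eq_bot_iff]
  intro n hn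
  have hfix : ∀ u ∈ U, u ≠ 1 → ∀ n ∈ N, n * u = u * n → n = 1 := by
    intro u hu hu1 n hn hnu
    refine h.eq_one_of_commute (hF.conj u hu hu1) ?_ hnu
    exact Odd.of_dvd_nat hN (by
      have := orderOf_dvd_natCard (⟨n, hn⟩ : N)
      rwa [Subgroup.orderOf_mk] at this)
  obtain ⟨u, huU, hu⟩ : ∃ u ∈ U, u ∉ zpowers z := by
    by_contra hcon
    push Not at hcon
    have h2 := Subgroup.card_le_of_le (show U ≤ zpowers z from hcon)
    rw [Nat.card_zpowers, hF.klein.card_four, h.z_ord] at h2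
    omega
  have hu1 : u ≠ 1 := by rintro rfl; exact hu (one_mem _)
  have hzu1 : z * u ≠ 1 := by
    intro hc
    apply hu
    rw [mul_eq_one_iff_eq_inv'] at hc
    rw [hc]; exact inv_mem (mem_zpowers z)
  have e1 := inv_of_fpf h.z_sq (hfix z hF.z_mem h.z_ne_one) hn
  have e2 := inv_of_fpf (hF.sq huU) (hfix u huU hu1) hn
  have e3 := inv_of_fpf (hF.sq (mul_mem hF.z_mem huU)) (hfix _ (mul_mem hF.z_mem huU) hzu1) hn
  have e4 : z * u * n * (z * u)⁻¹ = z * (u * n * u⁻¹) * z⁻¹ := by group
  have e5 : z * n⁻¹ * z⁻¹ = (z * n * z⁻¹)⁻¹ := by group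
  rw [e4, e2, e5, e1, inv_inv] at e3
  have h6 : orderOf n ∣ 2 := orderOf_dvd_of_pow_eq_one (by
    rw [pow_two]
    nth_rewrite 1 [e3]
    exact inv_mul_cancel n)
  have h7 : Odd (orderOf n) := Odd.of_dvd_nat hN (by
      have := orderOf_dvd_natCard (⟨n, hn⟩ : N)
      rwa [Subgroup.orderOf_mk] at this)
  rcases (Nat.dvd_prime Nat.prime_two).1 h6 with h8 | h8
  · exact orderOf_eq_one_iff.1 h8
  · rw [h8] at h7
    exact absurd h7 (by decide)

/-- Normal subgroups of odd index are everything. -/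
theorem normal_odd_index (h : CentD8 S r s z) {N : Subgroup G} [N.Normal] (hN : ¬ 2 ∣ N.index) : N = ⊤ := by
  have hSN : (S : Subgroup G) ≤ N := by
    intro x hx
    obtain ⟨k, hk⟩ := IsPGroup.iff_orderOf.1 S.isPGroup' ⟨x, hx⟩
    rw [Subgroup.orderOf_mk] at hk
    have h1 : orderOf (QuotientGroup.mk' N x) ∣ 2 ^ k := by
      rw [← hk]; exact orderOf_map_dvd _ x
    have h2 : orderOf (QuotientGroup.mk' N x) ∣ N.index := orderOf_dvd_natCard _
    have h3 : Nat.Coprime (2 ^ k) N.index :=
      Nat.Coprime.pow_left k ((Nat.Prime.coprime_iff_not_dvd Nat.prime_two).2 hN)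
    have h4 := Nat.eq_one_of_dvd_coprimes h3 h1 h2
    rw [orderOf_eq_one_iff] at h4
    exact (QuotientGroup.eq_one_iff _).1 h4
  have h1 : Subgroup.normalizer (((S.subtype hSN : Sylow 2 N) : Subgroup N).map N.subtype : Set G) ⊔ N = ⊤ :=
    Sylow.normalizer_sup_eq_top (S.subtype hSN)
  have h2 : (((S.subtype hSN : Sylow 2 N) : Subgroup N).map N.subtype) = (S : Subgroup G) := by
    rw [Sylow.coe_subtype, Subgroup.subgroupOf_map_subtype]
    exact inf_eq_left.2 hSN
  rw [h2] at h1
  rw [eq_top_iff, ← h1]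
  exact sup_le (h.normalizer_le.trans hSN) le_rfl

/-- Without subgroups of index 2, `G` is perfect. -/
theorem perfect (h : CentD8 S r s z) (hG : ∀ H : Subgroup G, H.index ≠ 2) : commutator G = ⊤ := by
  apply h.normal_odd_index
  intro h2
  have h3 : 2 ∣ Nat.card (Abelianization G) := h2
  obtain ⟨H, hH⟩ := exists_index_two_of_comm h3
  apply hG (H.comap (Abelianization.of))
  have hs : Function.Surjective (Abelianization.of : G →* Abelianization G) :=
    QuotientGroup.mk'_surjective _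
  rw [Subgroup.index_comap_of_surjective _ hs, hH]

/-- Without subgroups of index 2 and normal 2-complement, `G` is simple. -/
theorem simple (h : CentD8 S r s z) {U : Subgroup G} {g : G} (hF : Four S z U g)
    (hG : ∀ H : Subgroup G, H.index ≠ 2) : IsSimpleGroup G := by
  haveI : Nontrivial G := ⟨z, 1, h.z_ne_one⟩
  refine ⟨fun N hN => ?_⟩
  by_cases hodd : Odd (Nat.card N)
  · exact Or.inl (h.normal_odd hF hodd)
  right
  rw [Nat.not_odd_iff_even] at hodd
  haveI : Fact (Nat.Prime 2) := ⟨Nat.prime_two⟩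
  obtain ⟨t, ht⟩ := exists_prime_orderOf_dvd_card' (G := N) 2 hodd.two_dvd
  have ht' : orderOf (t : G) = 2 := by rw [Subgroup.orderOf_coe]; exact ht
  have hall : ∀ u : G, orderOf u = 2 → u ∈ N := by
    intro u hu
    obtain ⟨g, rfl⟩ := isConj_iff.1 (isConj_of_no_index_two h.dih hG ht' hu)
    exact hN.conj_mem t t.2 g
  have hs := hall s (h.dih.orderOf_eq_two h.dih.s_mem h.dih.s_notMem)
  have hsr := hall (s * r) (h.dih.orderOf_eq_two (mul_mem h.dih.s_mem h.dih.r_mem)
    (h.dih.mul_notMem (mem_zpowers r)))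
  have hr : r ∈ N := by
    have := mul_mem (inv_mem hs) hsr
    rwa [inv_mul_cancel_left] at this
  have hSN : (S : Subgroup G) ≤ N := by
    intro x hx
    rcases h.dih.cases x hx with h1 | h1
    · exact (zpowers_le.2 hr) h1
    · have h2 := (zpowers_le.2 hr) h1
      have := mul_mem (inv_mem hs) h2
      rwa [inv_mul_cancel_left] at this
  apply h.normal_odd_index
  intro h2
  exact S.not_dvd_index (h2.trans (Subgroup.index_dvd_of_le hSN))

theorem card_S (h : CentD8 S r s z) : Nat.card (S : Subgroup G) = 8 := by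
  have hidx : (zpowers r).relIndex (S : Subgroup G) = 2 := by
    rw [Subgroup.relIndex, Subgroup.index_eq_two_iff_exists_notMem_and']
    refine ⟨⟨s, h.dih.s_mem⟩, fun hc => h.dih.s_notMem hc, fun b => ?_⟩
    rcases h.dih.cases b b.2 with h1 | h1
    · exact Or.inr h1
    · exact Or.inl h1
  have h1 := H17.relIndex_mul_card_of_le h.dih.C_le
  rw [hidx, Nat.card_zpowers, h.dih.orderOf_r] at h1
  omega

theorem Four.le_normalizer (h : CentD8 S r s z) {U : Subgroup G} {g : G} (hF : Four S z U g) :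
    (S : Subgroup G) ≤ Subgroup.normalizer (U : Set G) := by
  have h1 : U.relIndex (S : Subgroup G) = 2 := by
    have h2 := H17.relIndex_mul_card_of_le hF.le
    rw [hF.klein.card_four, h.card_S] at h2
    omega
  haveI : (U.subgroupOf (S : Subgroup G)).Normal := Subgroup.normal_of_index_eq_two h1
  exact (Subgroup.normal_subgroupOf_iff_le_normalizer hF.le).1 inferInstance

theorem Four.card_normalizer (h : CentD8 S r s z) {U : Subgroup G} {g : G} (hF : Four S z U g) :
    Nat.card (Subgroup.normalizer (U : Set G)) = 24 := by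
  set N := Subgroup.normalizer (U : Set G) with hN
  have h1 : (U.subgroupOf N).index ∣ 6 := by
    have h2 : (Subgroup.normalizerMonoidHom U).ker.index ∣ Nat.card (MulAut U) := by
      rw [Subgroup.index_ker]
      exact Subgroup.card_subgroup_dvd_card _
    have h3 := H17.card_mulAut_dvd_factorial U
    rw [hF.klein.card_four] at h3
    rw [Subgroup.normalizerMonoidHom_ker, hF.cent] at h2
    exact h2.trans h3
  have h2 : U.relIndex N * 4 = Nat.card N := by
    rw [← hF.klein.card_four]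
    exact H17.relIndex_mul_card_of_le Subgroup.le_normalizer
  have h8 : 8 ∣ Nat.card N := by
    rw [← h.card_S]
    exact Subgroup.card_dvd_of_le (hF.le_normalizer h)
  have h3 : orderOf g ∣ Nat.card N := by
    rw [← Nat.card_zpowers]
    exact Subgroup.card_dvd_of_le (zpowers_le.2 hF.g_norm)
  have h4 : U.relIndex N ∣ 6 := h1
  have h5 : orderOf g ≠ 1 := fun hc => hF.g_ne (orderOf_eq_one_iff.1 hc)
  have h6 := hF.g_odd
  have h7 : U.relIndex N ∈ Nat.divisors 6 := Nat.mem_divisors.2 ⟨h4, by norm_num⟩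
  rw [show Nat.divisors 6 = {1, 2, 3, 6} by decide +kernel] at h7
  simp only [Finset.mem_insert, Finset.mem_singleton] at h7
  rcases h7 with h7 | h7 | h7 | h7
  · rw [h7] at h2; omega
  · exfalso
    rw [h7] at h2
    rw [← h2] at h3
    have h9 : Nat.Coprime (orderOf g) (2 ^ 3) := Nat.Coprime.pow_right 3 (Nat.coprime_two_right.2 h6)
    exact h5 (Nat.eq_one_of_dvd_coprimes h9 dvd_rfl h3)
  · rw [h7] at h2; omega
  · rw [h7] at h2; omega

/-- `N(U)` has no elements of order 6. -/
theorem Four.orderOf_ne_six (h : CentD8 S r s z) {U : Subgroup G} {g : G} (hF : Four S z U g) 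
    {y : G} (hy : y ∈ Subgroup.normalizer (U : Set G)) : orderOf y ≠ 6 := by
  intro h6
  have hx : orderOf (y ^ 2) = 3 := by rw [orderOf_pow, h6]; norm_num
  have hj : orderOf (y ^ 3) = 2 := by rw [orderOf_pow, h6]; norm_num
  have hx1 : y ^ 2 ≠ 1 := by intro hc; rw [hc, orderOf_one] at hx; omega
  have hj1 : y ^ 3 ≠ 1 := by intro hc; rw [hc, orderOf_one] at hj; omega
  have hcomm : y ^ 2 * y ^ 3 = y ^ 3 * y ^ 2 := by rw [← pow_add, ← pow_add]
  have hodd : Odd (orderOf (y ^ 2)) := by rw [hx]; decide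
  haveI : Fact (Nat.Prime 2) := ⟨Nat.prime_two⟩
  by_cases hjU : y ^ 3 ∈ U
  · exact hx1 (h.eq_one_of_commute (hF.conj _ hjU hj1) hodd hcomm)
  -- fixed points of `y ^ 3` on `U`
  have hjc : y ^ 3 ∉ Subgroup.centralizer (U : Set G) := by rwa [hF.cent]
  have hyN3 : y ^ 3 ∈ Subgroup.normalizer (U : Set G) := pow_mem hy 3
  have hyN2 : y ^ 2 ∈ Subgroup.normalizer (U : Set G) := pow_mem hy 2
  set W := U ⊓ Subgroup.centralizer ({y ^ 3} : Set G) with hW
  have hWU : W ≤ U := inf_le_left
  have hcardW : Nat.card W = 1 ∨ Nat.card W = 2 ∨ Nat.card W = 4 := by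
    have h1 := Subgroup.card_dvd_of_le hWU
    rw [hF.klein.card_four] at h1
    have h7 : Nat.card W ∈ Nat.divisors 4 := Nat.mem_divisors.2 ⟨h1, by norm_num⟩
    rw [show Nat.divisors 4 = {1, 2, 4} by decide +kernel] at h7
    simpa using h7
  have hfix : ∀ w ∈ W, w ≠ 1 → (y ^ 2) * w * (y ^ 2)⁻¹ ≠ w := by
    intro w hw hw1 hc
    exact hx1 (h.eq_one_of_commute (hF.conj w (hWU hw) hw1) hodd (mul_inv_eq_iff_eq_mul.1 hc))
  have hWst : ∀ w ∈ W, (y ^ 2) * w * (y ^ 2)⁻¹ ∈ W := by
    intro w hw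
    refine ⟨(Subgroup.mem_normalizer_iff.1 hyN2 w).1 (hWU hw), ?_⟩
    have h1 : w * y ^ 3 = y ^ 3 * w := mem_centralizer_singleton_iff.1 hw.2
    show _ ∈ Subgroup.centralizer ({y ^ 3} : Set G)
    rw [mem_centralizer_singleton_iff]
    have e1 : (y ^ 2) * w * (y ^ 2)⁻¹ * y ^ 3 = (y ^ 2) * (w * y ^ 3) * (y ^ 2)⁻¹ := by group
    rw [e1, h1]; group
  rcases hcardW with h1 | h1 | h1
  · -- an involution acting on a four-group has a fixed point
    obtain ⟨u, huU, hu1⟩ : ∃ u ∈ U, u ≠ 1 := ⟨z, hF.z_mem, h.z_ne_one⟩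
    have hWbot : W = ⊥ := Subgroup.card_eq_one.1 h1
    have hj2 : y ^ 3 * y ^ 3 = 1 := by rw [← pow_two, ← hj, pow_orderOf_eq_one]
    have hu' : y ^ 3 * u * (y ^ 3)⁻¹ ∈ U := (Subgroup.mem_normalizer_iff.1 hyN3 u).1 huU
    have hcm : ∀ v ∈ U, ∀ w ∈ U, v * w = w * v := by
      intro v hv w hw
      have := hw
      rw [← hF.cent, Subgroup.mem_centralizer_iff] at this
      exact this v hv
    have hp : u * (y ^ 3 * u * (y ^ 3)⁻¹) ∈ W := by
      refine ⟨mul_mem huU hu', ?_⟩
      show _ ∈ Subgroup.centralizer ({y ^ 3} : Set G)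
      rw [mem_centralizer_singleton_iff]
      have e2 : y ^ 3 * (u * (y ^ 3 * u * (y ^ 3)⁻¹)) * (y ^ 3)⁻¹ =
          (y ^ 3 * u * (y ^ 3)⁻¹) * ((y ^ 3 * y ^ 3) * u * (y ^ 3 * y ^ 3)⁻¹) := by
        group
      rw [hj2, one_mul, inv_one, mul_one, hcm _ hu' _ huU] at e2
      exact (mul_inv_eq_iff_eq_mul.1 e2).symm
    rw [hWbot, mem_bot] at hp
    have h2 : y ^ 3 * u * (y ^ 3)⁻¹ = u := by
      rw [mul_eq_one_iff_eq_inv'] at hp
      rw [hp]
      exact inv_eq_of_mul_eq_one_left (hF.sq huU)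
    have h3 : u ∈ W := by
      refine ⟨huU, ?_⟩
      show _ ∈ Subgroup.centralizer ({y ^ 3} : Set G)
      rw [mem_centralizer_singleton_iff]
      exact (mul_inv_eq_iff_eq_mul.1 h2).symm
    rw [hWbot, mem_bot] at h3
    exact hu1 h3
  · obtain ⟨w, hw, hw1⟩ : ∃ w ∈ W, w ≠ 1 := by
      by_contra hcon
      push Not at hcon
      have : W = ⊥ := (eq_bot_iff).2 (fun w hw => hcon w hw)
      rw [this, Subgroup.card_bot] at h1
      omega
    have h2 := hfix w hw hw1
    have h3 := hWst w hw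
    have h4 : W = zpowers w := by
      symm
      apply Subgroup.eq_of_le_of_card_ge (zpowers_le.2 hw)
      rw [h1, Nat.card_zpowers]
      have : orderOf w ≠ 1 := fun hc => hw1 (orderOf_eq_one_iff.1 hc)
      have := orderOf_pos w
      omega
    have hww := hF.sq (hWU hw)
    rw [h4, Subgroup.mem_zpowers_iff] at h3
    obtain ⟨k, hk⟩ := h3
    rcases Int.even_or_odd k with ⟨l, hl⟩ | ⟨l, hl⟩
    · rw [hl, ← two_mul, zpow_mul, zpow_two, hww, one_zpow] at hk
      apply hw1
      have := congrArg (fun v => (y ^ 2)⁻¹ * v * (y ^ 2)) hk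
      simpa [mul_assoc] using this.symm
    · rw [hl, zpow_add, zpow_mul, zpow_two, hww, one_zpow, one_mul, zpow_one] at hk
      exact h2 hk.symm
  · have h2 : W = U := Subgroup.eq_of_le_of_card_ge hWU (by rw [h1, hF.klein.card_four])
    apply hjc
    rw [Subgroup.mem_centralizer_iff]
    intro u hu
    rw [SetLike.mem_coe, ← h2] at hu
    exact mem_centralizer_singleton_iff.1 hu.2

/-- No central involution. -/
theorem Four.center (h : CentD8 S r s z) {U : Subgroup G} {g : G} (hF : Four S z U g) :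
    Subgroup.center G = ⊥ := by
  rw [eq_bot_iff]
  intro c hc
  rw [Subgroup.mem_center_iff] at hc
  have hcS : c ∈ (S : Subgroup G) := h.mem_iff.2 (hc z).symm
  rcases h.central_eq hcS (hc r).symm (hc s).symm with h1 | h1
  · exact h1
  · exfalso
    rw [h1] at hc
    exact hF.g_ne (h.eq_one_of_commute (IsConj.refl z) hF.g_odd (hc g))

end CentD8

/-- A group of order `n!` with a core-free subgroup of index `n` is `S_n`. -/
theorem mulEquiv_perm_of_index {G : Type*} [Group G] [Finite G] {H : Subgroup G} {n : ℕ} 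
    (hidx : H.index = n) (hcore : H.normalCore = ⊥) (hcard : Nat.card G = n.factorial) :
    Nonempty (G ≃* Equiv.Perm (Fin n)) := by
  have e : (G ⧸ H) ≃ Fin n := by
    have : Nat.card (G ⧸ H) = n := hidx
    exact (Finite.equivFinOfCardEq this)
  set f : G →* Equiv.Perm (Fin n) :=
    (Equiv.permCongrHom e).toMonoidHom.comp (MulAction.toPermHom G (G ⧸ H)) with hf
  have hinj : Function.Injective f := by
    apply (Equiv.permCongrHom e).injective.comp
    rw [← MonoidHom.ker_eq_bot_iff, ← Subgroup.normalCore_eq_ker, hcore]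
  have hbij : Function.Bijective f := by
    rw [Nat.bijective_iff_injective_and_card]
    refine ⟨hinj, ?_⟩
    rw [hcard, Nat.card_perm, Nat.card_fin]
  exact ⟨MulEquiv.ofBijective f hbij⟩

end Cfsg.Agent.DihSyl
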