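import Mathlib
import Cfsg.Agent.DihSyl.CentD8
import Cfsg.Agent.S1012
import Cfsg.Agent.S3277

/-!
# Groups with an involution whose centralizer is dihedral of order 8: subgroup of index two
-/

set_option autoImplicit false
set_option linter.style.haveILetI false
set_option linter.unusedSectionVars false

namespace Cfsg.Agent.DihSyl

open Subgroup

namespace CentD8

variable {G : Type*} [Group G] [Finite G] {S : Sylow 2 G} {r s z : G}

/-- The four-group lies in each subgroup of index two. -/
theorem Four.le_index_two (h : CentD8 S r s z) {U : Subgroup G} {g : G} (hF : Four S z U g)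
    {M : Subgroup G} (hM : M.index = 2) : U ≤ M := by
  haveI : M.Normal := Subgroup.normal_of_index_eq_two hM
  have hz : z ∈ M := by
    by_contra hzM
    obtain ⟨u, huU, hu⟩ : ∃ u ∈ U, u ∉ zpowers z := by
      by_contra hcon
      push Not at hcon
      have h2 := Subgroup.card_le_of_le (show U ≤ zpowers z from hcon)
      rw [Nat.card_zpowers, hF.klein.card_four, h.z_ord] at h2
      omega
    have hu1 : u ≠ 1 := by rintro rfl; exact hu (one_mem _)
    have hzu1 : z * u ≠ 1 := by
      intro hc
      apply hu
      rw [mul_eq_one_iff_eq_inv'] at hc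
      rw [hc]; exact inv_mem (mem_zpowers z)
    have huM : u ∉ M := by
      intro huM
      apply hzM
      obtain ⟨c, hc⟩ := isConj_iff.1 (hF.conj u huU hu1).symm
      rw [← hc]
      exact (inferInstance : M.Normal).conj_mem u huM c
    have hzu : z * u ∈ M := (Subgroup.mul_mem_iff_of_index_two hM).2 (by tauto)
    apply hzM
    obtain ⟨c, hc⟩ := isConj_iff.1 (hF.conj (z * u) (mul_mem hF.z_mem huU) hzu1).symm
    rw [← hc]
    exact (inferInstance : M.Normal).conj_mem _ hzu c
  intro u hu
  by_cases hu1 : u = 1
  · rw [hu1]; exact one_mem _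
  · obtain ⟨c, hc⟩ := isConj_iff.1 (hF.conj u hu hu1)
    rw [← hc]
    exact (inferInstance : M.Normal).conj_mem _ hz c

theorem Four.g_mem (_h : CentD8 S r s z) {U : Subgroup G} {g : G} (hF : Four S z U g)
    {M : Subgroup G} (hM : M.index = 2) : g ∈ M := by
  apply mem_of_pow_mem (k := 1) hF.g_odd
  haveI : M.Normal := Subgroup.normal_of_index_eq_two hM
  rw [pow_one]
  exact Subgroup.sq_mem_of_index_two hM g

theorem Four.inf_eq (h : CentD8 S r s z) {U : Subgroup G} {g : G} (hF : Four S z U g)
    {M : Subgroup G} (hM : M.index = 2) : (S : Subgroup G) ⊓ M = U := by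
  have h1 : U ≤ (S : Subgroup G) ⊓ M := le_inf hF.le (hF.le_index_two h hM)
  have h2 : ¬ (S : Subgroup G) ≤ M := by
    intro hc
    have h3 := Subgroup.index_dvd_of_le hc
    rw [hM] at h3
    exact S.not_dvd_index h3
  have h3 : ((S : Subgroup G) ⊓ M) < (S : Subgroup G) := by
    refine lt_of_le_of_ne inf_le_left ?_
    intro hc
    exact h2 (hc ▸ inf_le_right)
  have h4 := Subgroup.card_dvd_of_le h1
  have h5 := Subgroup.card_dvd_of_le h3.le
  rw [h.card_S] at h5
  rw [hF.klein.card_four] at h4
  have h6 : Nat.card ((S : Subgroup G) ⊓ M : Subgroup G) < 8 := by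
    rw [← h.card_S]
    exact Set.ncard_lt_ncard h3 (Set.toFinite _) |> fun h => h
  have h7 : Nat.card ((S : Subgroup G) ⊓ M : Subgroup G) = 4 := by
    generalize Nat.card ((S : Subgroup G) ⊓ M : Subgroup G) = n at *
    have : n ∣ 8 := h5
    have : n = 4 ∨ n = 0 := by omega
    rcases this with h8 | h8
    · exact h8
    · rw [h8] at h5; omega
  exact (Subgroup.eq_of_le_of_card_ge h1 (by rw [h7, hF.klein.card_four])).symm

/-- The subgroup of index two: `G` is `S₄` or `S₅`. -/
theorem of_index_two (h : CentD8 S r s z) {U : Subgroup G} {g : G} (hF : Four S z U g)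
    {M : Subgroup G} (hM : M.index = 2) :
    Nonempty (G ≃* Equiv.Perm (Fin 4)) ∨ Nonempty (G ≃* Equiv.Perm (Fin 5)) := by
  haveI hMn : M.Normal := Subgroup.normal_of_index_eq_two hM
  have hUM := hF.le_index_two h hM
  have hzM : z ∈ M := hUM hF.z_mem
  have hgM := hF.g_mem h hM
  have hcard := hF.card_normalizer h
  have hinf := hF.inf_eq h hM
  have hcen : Subgroup.centralizer ({(⟨z, hzM⟩ : M)} : Set M) = U.subgroupOf M := by
    ext x
    rw [mem_centralizer_singleton_iff, Subgroup.mem_subgroupOf, ← hinf, Subgroup.mem_inf, h.mem_iff]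
    constructor
    · intro hx
      exact ⟨congrArg Subtype.val hx, x.2⟩
    · intro hx
      exact Subtype.ext hx.1
  have hC4 : Nat.card (U.subgroupOf M) = 4 := by
    rw [Nat.card_congr (Subgroup.subgroupOfEquivOfLe hUM).toEquiv, hF.klein.card_four]
  have hcardM : Nat.card M * 2 = Nat.card G := by rw [← hM]; exact Subgroup.card_mul_index M
  have hGM : ∀ H : Subgroup G, M ≤ H → ¬ H ≤ M → H = ⊤ := by
    intro H h1 h2
    have h3 := Subgroup.relIndex_mul_index h1
    rw [hM] at h3
    have h4 : H.index ∣ 2 := ⟨M.relIndex H, by rw [mul_comm]; exact h3.symm⟩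
    rcases (Nat.dvd_prime Nat.prime_two).1 h4 with h5 | h5
    · exact Subgroup.index_eq_one.1 h5
    · exfalso
      apply h2
      rw [h5] at h3
      have h6 : M.relIndex H = 1 := by omega
      exact Subgroup.relIndex_eq_one.1 h6
  have hSM : ¬ (S : Subgroup G) ≤ M := by
    intro hc
    have h3 := Subgroup.index_dvd_of_le hc
    rw [hM] at h3
    exact S.not_dvd_index h3
  have hne6 : ∀ y : Subgroup.normalizer (U : Set G), orderOf y ≠ 6 := by
    intro y hy
    rw [← Subgroup.orderOf_coe] at hy
    exact hF.orderOf_ne_six h y.2 hy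
  by_cases hMN : M ≤ Subgroup.normalizer (U : Set G)
  · left
    have h1 := hGM _ hMN (fun hc => hSM ((hF.le_normalizer h).trans hc))
    obtain ⟨e⟩ := S1012.result hcard hne6
    rw [h1] at e
    exact ⟨Subgroup.topEquiv.symm.trans e⟩
  right
  -- `M` is `A₅`
  have hA5 : Nonempty (M ≃* alternatingGroup (Fin 5)) := by
    apply S3277.result (⟨z, hzM⟩ : M)
    · rw [Subgroup.orderOf_mk, h.z_ord]
    · rw [hcen, hC4]
    · intro c hc
      rw [hcen, Subgroup.mem_subgroupOf] at hc
      apply Subtype.ext
      show (c : G) ^ 2 = 1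
      rw [pow_two]
      exact hF.sq hc
    · intro hn
      have hUp : IsPGroup 2 (U.subgroupOf M) := IsPGroup.of_card (n := 2) (by rw [hC4]; rfl)
      obtain ⟨P, hP⟩ := hUp.exists_le_sylow
      have h1 := centralizes_of_eq (normalizer_eq_of_hasNPC hn hP) (g := ⟨g, hgM⟩) ?_ ?_
      · rw [Subgroup.mem_centralizer_iff] at h1
        have h2 := h1 ⟨z, hzM⟩ (show (⟨z, hzM⟩ : M) ∈ U.subgroupOf M from hF.z_mem)
        have h3 : z * g = g * z := congrArg Subtype.val h2
        exact hF.g_ne (h.eq_one_of_commute (IsConj.refl z) hF.g_odd h3.symm)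
      · rw [Subgroup.mem_normalizer_iff]
        intro x
        rw [Subgroup.mem_subgroupOf, Subgroup.mem_subgroupOf]
        exact Subgroup.mem_normalizer_iff.1 hF.g_norm x
      · rw [Subgroup.orderOf_mk]
        exact hF.g_odd
    · intro E hEn hE
      haveI := hEn
      have hEp : IsPGroup 2 E := by
        intro x
        refine ⟨1, Subtype.ext ?_⟩
        rw [pow_one]
        exact hE.2 x x.2
      -- `U` is a Sylow subgroup
      have hUp : IsPGroup 2 (U.subgroupOf M) := IsPGroup.of_card (n := 2) (by rw [hC4]; rfl)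
      have hidx : ¬ 2 ∣ (U.subgroupOf M).index := by
        have h1 := Subgroup.card_mul_index (U.subgroupOf M)
        have h2 := Subgroup.card_mul_index (S : Subgroup G)
        rw [hC4] at h1
        rw [h.card_S, ← hcardM, ← h1] at h2
        have h3 : (U.subgroupOf M).index = (S : Subgroup G).index := by omega
        rw [h3]
        exact S.not_dvd_index
      haveI : Fact (Nat.Prime 2) := ⟨Nat.prime_two⟩
      have hEU : E ≤ U.subgroupOf M := hEp.le_sylow_of_normal (hUp.toSylow hidx)
      constructor
      · intro hc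
        obtain ⟨e, he, he1⟩ : ∃ e ∈ E, e ≠ 1 := by
          by_contra hcon
          push Not at hcon
          have : E = ⊥ := (eq_bot_iff).2 (fun w hw => hcon w hw)
          rw [this, Subgroup.card_bot] at hc
          omega
        have h1 : (⟨g, hgM⟩ : M) * e * (⟨g, hgM⟩ : M)⁻¹ ∈ E := hEn.conj_mem e he _
        have h4 : E = zpowers e := by
          symm
          apply Subgroup.eq_of_le_of_card_ge (zpowers_le.2 he)
          rw [hc, Nat.card_zpowers]
          have : orderOf e ≠ 1 := fun hc => he1 (orderOf_eq_one_iff.1 hc)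
          have := orderOf_pos e
          omega
        have hee : e * e = 1 := by rw [← pow_two]; exact hE.2 e he
        rw [h4, Subgroup.mem_zpowers_iff] at h1
        obtain ⟨k, hk⟩ := h1
        rcases Int.even_or_odd k with ⟨l, hl⟩ | ⟨l, hl⟩
        · rw [hl, ← two_mul, zpow_mul, zpow_two, hee, one_zpow] at hk
          apply he1
          have := congrArg (fun v => (⟨g, hgM⟩ : M)⁻¹ * v * (⟨g, hgM⟩ : M)) hk
          simpa [mul_assoc] using this.symm
        · rw [hl, zpow_add, zpow_mul, zpow_two, hee, one_zpow, one_mul, zpow_one] at hk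
          have h5 := congrArg (fun v : M => (v : G)) (mul_inv_eq_iff_eq_mul.1 hk.symm)
          refine hF.g_ne (h.eq_one_of_commute (hF.conj (e : G) (hEU he) ?_) hF.g_odd h5)
          intro hc
          exact he1 (Subtype.ext hc)
      · intro hc
        apply hMN
        have h1 : E = U.subgroupOf M := Subgroup.eq_of_le_of_card_ge hEU (by rw [hc, hC4])
        rw [h1] at hEn
        exact (Subgroup.normal_subgroupOf_iff_le_normalizer hUM).1 hEn
  obtain ⟨e⟩ := hA5
  haveI : Fact (2 < Nat.card (Fin 5)) := ⟨by simp⟩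
  haveI hs : IsSimpleGroup M := by
    haveI : IsSimpleGroup (alternatingGroup (Fin 5)) := inferInstance
    haveI : Nontrivial M := e.toEquiv.nontrivial
    exact IsSimpleGroup.isSimpleGroup_of_surjective e.symm.toMonoidHom e.symm.surjective
  have hM60 : Nat.card M = 60 := by
    rw [Nat.card_congr e.toEquiv]
    have h1 := two_mul_nat_card_alternatingGroup (α := Fin 5)
    rw [Nat.card_perm, Nat.card_fin] at h1
    have : (5 : ℕ).factorial = 120 := by decide
    omega
  have hG120 : Nat.card G = 120 := by omega
  have hidx : (Subgroup.normalizer (U : Set G)).index = 5 := by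
    have h1 := Subgroup.card_mul_index (Subgroup.normalizer (U : Set G))
    rw [hcard, hG120] at h1
    omega
  apply mulEquiv_perm_of_index hidx
  · set K := (Subgroup.normalizer (U : Set G)).normalCore with hK
    have hKM : K ⊓ M = ⊥ := by
      have h1 : (K.subgroupOf M).Normal := inferInstance
      rcases h1.eq_bot_or_eq_top with h2 | h2
      · rw [Subgroup.subgroupOf_eq_bot] at h2
        exact disjoint_iff.1 h2
      · exfalso
        rw [Subgroup.subgroupOf_eq_top] at h2
        exact hMN (h2.trans (Subgroup.normalCore_le _))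
    rw [eq_bot_iff, ← hF.center h]
    intro k hk
    rw [Subgroup.mem_center_iff]
    intro x
    by_cases hkM : k ∈ M
    · have : k ∈ K ⊓ M := ⟨hk, hkM⟩
      rw [hKM, mem_bot] at this
      rw [this]; simp
    · have h1 : x * k * x⁻¹ ∈ K := (inferInstance : K.Normal).conj_mem k hk x
      have h2 : x * k * x⁻¹ ∉ M := by
        intro hc
        apply hkM
        have := hMn.conj_mem _ hc x⁻¹
        simpa [mul_assoc] using this
      have h3 : x * k * x⁻¹ * k⁻¹ ∈ K ⊓ M := by
        refine Subgroup.mem_inf.2 ⟨K.mul_mem h1 (K.inv_mem hk), ?_⟩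
        have h7 : k⁻¹ ∉ M := fun hc => hkM (by have := inv_mem hc; rwa [inv_inv] at this)
        exact (Subgroup.mul_mem_iff_of_index_two hM).2 (by tauto)
      rw [hKM, mem_bot] at h3
      have h4 := mul_inv_eq_one.1 h3
      exact mul_inv_eq_iff_eq_mul.1 h4
  · rw [hG120]; decide

end CentD8

end Cfsg.Agent.DihSyl
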