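import Mathlib

/-!
# Some facts about `S₄`
-/

set_option autoImplicit false

namespace Cfsg.Agent.DihSyl.Six

open Equiv

abbrev P4 := Perm (Fin 4)

def sg : P4 := swap 0 2 * swap 1 3
def ta : P4 := swap 0 2
def tb : P4 := swap 1 3
def va : P4 := swap 0 1 * swap 2 3
def vb : P4 := swap 0 3 * swap 1 2
def rc : P4 := swap 0 1 * swap 1 2 * swap 2 3
def th : P4 := swap 0 1 * swap 1 2

theorem cent_sg : ∀ π : P4, π * sg = sg * π →
    π = 1 ∨ π = sg ∨ π = va ∨ π = vb ∨ π = ta ∨ π = tb ∨ π = rc ∨ π = rc * rc * rc := by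
  decide +kernel

theorem comm_sg : ∀ π : P4, π * sg = sg * π → ∀ ρ : P4, ρ * sg = sg * ρ →
    π * ρ * π⁻¹ * ρ⁻¹ = 1 ∨ π * ρ * π⁻¹ * ρ⁻¹ = sg := by
  decide +kernel

theorem center_P4 : ∀ π : P4, (∀ ρ : P4, π * ρ = ρ * π) → π = 1 := by
  decide +kernel


theorem comm_rc_ta : sg = rc * ta * rc⁻¹ * ta⁻¹ := by decide +kernel

theorem rc_sg : rc * sg = sg * rc := by decide +kernel

theorem ta_sg : ta * sg = sg * ta := by decide +kernel

theorem tb_sg : tb * sg = sg * tb := by decide +kernel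

theorem rc_ta : rc * ta * rc⁻¹ = tb := by decide +kernel

theorem ta_tb : ta * tb = sg := by decide +kernel

theorem cent_ta_tb : ∀ π : P4, π * sg = sg * π → (π * ta = ta * π ↔ π * tb = tb * π) := by
  decide +kernel

theorem cent_ta : ∀ π : P4, π * sg = sg * π → π * ta = ta * π →
    π = 1 ∨ π = sg ∨ π = ta ∨ π = tb := by
  decide +kernel

theorem comm_cent_ta : ∀ π : P4, π * sg = sg * π → π * ta = ta * π →
    ∀ ρ : P4, ρ * sg = sg * ρ → ρ * ta = ta * ρ → π * ρ = ρ * π := by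
  decide +kernel

theorem va_conj : th * sg * th⁻¹ = va ∨ th⁻¹ * sg * th = va := by decide +kernel

theorem vb_conj : th * sg * th⁻¹ = vb ∨ th⁻¹ * sg * th = vb := by decide +kernel

theorem rc_sq : rc * rc = sg := by decide +kernel

theorem rc_cube_sq : (rc * rc * rc) * (rc * rc * rc) = sg := by decide +kernel

theorem ta_sq : ta * ta = 1 := by decide +kernel

theorem tb_sq : tb * tb = 1 := by decide +kernel

theorem card_cs_P4 : Fintype.card {π : P4 // π * sg = sg * π} = 8 := by decide +kernel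

theorem V4_comm : ∀ π : P4, π * π = 1 → Perm.sign π = 1 → π * sg = sg * π := by decide +kernel

theorem th_cube : th * th * th = 1 := by decide +kernel

theorem th_ne : th ≠ 1 := by decide +kernel

theorem th_sg : th * sg ≠ sg * th := by decide +kernel

theorem no_three_four : ∀ π : P4, π * π * π = 1 →
    (π * sg * π⁻¹ = sg ∨ π * sg * π⁻¹ = ta ∨ π * sg * π⁻¹ = tb) →
    (π * ta * π⁻¹ = sg ∨ π * ta * π⁻¹ = ta ∨ π * ta * π⁻¹ = tb) → π = 1 := by
  decide +kernel

/-- The four-group `{1, sg, ta, tb}`. -/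
def W4 : Subgroup P4 where
  carrier := {π | π = 1 ∨ π = sg ∨ π = ta ∨ π = tb}
  mul_mem' := by
    intro a b
    revert a b
    decide +kernel
  one_mem' := Or.inl rfl
  inv_mem' := by
    intro a
    revert a
    decide +kernel

theorem mem_W4 (π : P4) : π ∈ W4 ↔ π = 1 ∨ π = sg ∨ π = ta ∨ π = tb := Iff.rfl

instance decMemW4 : DecidablePred (· ∈ W4) := fun x => decidable_of_iff _ (mem_W4 x).symm

theorem card_W4 : Nat.card W4 = 4 := by
  rw [Nat.card_eq_fintype_card]; decide +kernel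

theorem W4_sq : ∀ π : P4, (π = 1 ∨ π = sg ∨ π = ta ∨ π = tb) → π * π = 1 := by
  decide +kernel

end Cfsg.Agent.DihSyl.Six
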