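import Mathlib
import Cfsg.Agent.DihSyl.CentD8Two
import Cfsg.Agent.H17.Dihedral4
import Cfsg.Agent.DihSyl.SixBase

/-!
# Groups with an involution with centralizer `ℤ₂ × S₄`
-/

set_option autoImplicit false
set_option linter.style.haveILetI false
set_option linter.unusedSectionVars false

namespace Cfsg.Agent.DihSyl.Six

open Subgroup Equiv

variable {G : Type*} [Group G] [Finite G]

structure PreEmb (t : G) (φ : P4 →* G) : Prop where
  inj : Function.Injective φ
  comm : ∀ π, φ π * t = t * φ π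
  ord : orderOf t = 2
  notMem : ∀ π, φ π ≠ t
  surj : ∀ x, x * t = t * x → ∃ π, x = φ π ∨ x = φ π * t

structure Emb (t : G) (φ : P4 →* G) : Prop extends PreEmb t φ where
  cs : ∀ x, x * φ sg = φ sg * x → x * t = t * x

theorem PreEmb.t_sq' {t : G} {φ : P4 →* G} (h : PreEmb t φ) : t * t = 1 := by
  rw [← pow_two, ← h.ord, pow_orderOf_eq_one]

theorem PreEmb.comm_T {t : G} {φ : P4 →* G} (h : PreEmb t φ) {a b : G} {π ρ : P4} (hπ : π * sg = sg * π)
    (hρ : ρ * sg = sg * ρ) (hπ' : a = φ π ∨ a = φ π * t) (hρ' : b = φ ρ ∨ b = φ ρ * t) :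
    a * b * a⁻¹ * b⁻¹ = 1 ∨ a * b * a⁻¹ * b⁻¹ = φ sg := by
  have hbt : b * t = t * b := by
    rcases hρ' with rfl | rfl
    · exact h.comm ρ
    · rw [h.comm, mul_assoc, h.comm]
  have key : a * b * a⁻¹ * b⁻¹ = φ (π * ρ * π⁻¹ * ρ⁻¹) := by
    have h1 : ∀ x : P4, t * φ x = φ x * t := fun x => (h.comm x).symm
    have e1 : ∀ x y : G, x * t = t * x → y * t = t * y → (x * t) * y * (x * t)⁻¹ = x * y * x⁻¹ := by
      intro x y hx hy
      rw [mul_inv_rev]
      calc x * t * y * (t⁻¹ * x⁻¹) = x * (t * y * t⁻¹) * x⁻¹ := by group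
        _ = x * y * x⁻¹ := by rw [← hy, mul_inv_cancel_right]
    have e2 : ∀ x y : G, x * t = t * x → y * t = t * y → x * (y * t) * x⁻¹ * (y * t)⁻¹ = x * y * x⁻¹ * y⁻¹ := by
      intro x y hx hy
      rw [mul_inv_rev]
      calc x * (y * t) * x⁻¹ * (t⁻¹ * y⁻¹) = x * y * (t * x⁻¹ * t⁻¹) * y⁻¹ := by group
        _ = x * y * x⁻¹ * y⁻¹ := by
            have : t * x⁻¹ * t⁻¹ = x⁻¹ := by
              have h3 : t * x⁻¹ = x⁻¹ * t := by
                rw [eq_inv_mul_iff_mul_eq, ← mul_assoc, hx, mul_inv_cancel_right]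
              rw [h3, mul_inv_cancel_right]
            rw [this]
    rw [map_mul, map_mul, map_mul, map_inv, map_inv]
    rcases hπ' with rfl | rfl
    · rcases hρ' with rfl | rfl
      · rfl
      · exact e2 _ _ (h.comm π) (h.comm ρ)
    · rw [e1 _ _ (h.comm π) hbt]
      rcases hρ' with rfl | rfl
      · rfl
      · exact e2 _ _ (h.comm π) (h.comm ρ)
  rw [key]
  rcases comm_sg π hπ ρ hρ with h1 | h1
  · left; rw [h1, map_one]
  · right; rw [h1]

namespace Emb

variable {t : G} {φ : P4 →* G}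

theorem t_sq (h : Emb t φ) : t * t = 1 := by
  rw [← pow_two, ← h.ord, pow_orderOf_eq_one]

theorem t_ne (h : Emb t φ) : t ≠ 1 := by
  rintro rfl
  have := h.ord
  rw [orderOf_one] at this
  omega

theorem t_inv (h : Emb t φ) : t⁻¹ = t := inv_eq_of_mul_eq_one_left h.t_sq

theorem mul_t_eq (h : Emb t φ) {a b : P4} : φ a * t ≠ φ b := by
  intro hc
  apply h.notMem (a⁻¹ * b)
  rw [map_mul, ← hc, map_inv, inv_mul_cancel_left]

theorem mem_centralizer (h : Emb t φ) {x : G} :
    x * t = t * x ↔ ∃ π, x = φ π ∨ x = φ π * t := by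
  constructor
  · exact h.surj x
  · rintro ⟨π, rfl | rfl⟩
    · exact h.comm π
    · rw [h.comm, mul_assoc, h.comm]

theorem mem_cs (h : Emb t φ) {x : G} :
    x * φ sg = φ sg * x ↔ ∃ π, π * sg = sg * π ∧ (x = φ π ∨ x = φ π * t) := by
  constructor
  · intro hx
    obtain ⟨π, hπ⟩ := h.surj x (h.cs x hx)
    refine ⟨π, ?_, hπ⟩
    apply h.inj
    rw [map_mul, map_mul]
    rcases hπ with rfl | rfl
    · exact hx
    · have h1 : φ π * t * φ sg = φ π * φ sg * t := by rw [mul_assoc, ← h.comm, mul_assoc]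
      have h2 : φ sg * (φ π * t) = φ sg * φ π * t := by rw [mul_assoc]
      rw [h1, h2] at hx
      exact mul_right_cancel hx
  · rintro ⟨π, hπ, rfl | rfl⟩
    · rw [← map_mul, ← map_mul, hπ]
    · rw [mul_assoc, ← h.comm, ← mul_assoc, ← mul_assoc, ← map_mul, ← map_mul, hπ]

theorem sg_sq (φ : P4 →* G) : φ sg * φ sg = 1 := by
  rw [← map_mul, show sg * sg = 1 by decide +kernel, map_one]

theorem map_ne_one (h : Emb t φ) {π : P4} (hπ : π ≠ 1) : φ π ≠ 1 := by
  intro hc
  exact hπ (h.inj (hc.trans (map_one φ).symm))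

/-- The centralizer of `t` as a product. -/
noncomputable def centEquiv (h : Emb t φ) : (Bool × P4) ≃ Subgroup.centralizer ({t} : Set G) := by
  refine Equiv.ofBijective (fun p => ⟨cond p.1 (φ p.2) (φ p.2 * t), ?_⟩) ⟨?_, ?_⟩
  · rw [mem_centralizer_singleton_iff, h.mem_centralizer]
    refine ⟨p.2, ?_⟩
    cases p.1
    · exact Or.inr rfl
    · exact Or.inl rfl
  · rintro ⟨a, x⟩ ⟨b, y⟩ hxy
    have h1 := congrArg Subtype.val hxy
    cases a <;> cases b
    · have h2 : φ x * t = φ y * t := h1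
      rw [h.inj (mul_right_cancel h2)]
    · exact absurd h1 h.mul_t_eq
    · exact absurd (Eq.symm h1) h.mul_t_eq
    · have h2 : φ x = φ y := h1
      rw [h.inj h2]
  · rintro ⟨x, hx⟩
    rw [mem_centralizer_singleton_iff, h.mem_centralizer] at hx
    obtain ⟨π, rfl | rfl⟩ := hx
    · exact ⟨(true, π), rfl⟩
    · exact ⟨(false, π), rfl⟩

theorem card_cent (h : Emb t φ) : Nat.card (Subgroup.centralizer ({t} : Set G)) = 48 := by
  rw [← Nat.card_congr h.centEquiv, Nat.card_prod, Nat.card_perm, Nat.card_fin]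
  simp
  decide

/-- The centralizer of `s = φ sg`. -/
noncomputable def csEquiv (h : Emb t φ) :
    (Bool × {π : P4 // π * sg = sg * π}) ≃ Subgroup.centralizer ({φ sg} : Set G) := by
  refine Equiv.ofBijective (fun p => ⟨cond p.1 (φ p.2) (φ p.2 * t), ?_⟩) ⟨?_, ?_⟩
  · rw [mem_centralizer_singleton_iff, h.mem_cs]
    refine ⟨p.2, p.2.2, ?_⟩
    cases p.1
    · exact Or.inr rfl
    · exact Or.inl rfl
  · rintro ⟨a, x⟩ ⟨b, y⟩ hxy
    have h1 := congrArg Subtype.val hxy
    cases a <;> cases b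
    · have h2 : φ x * t = φ y * t := h1
      rw [Subtype.ext (h.inj (mul_right_cancel h2))]
    · exact absurd h1 h.mul_t_eq
    · exact absurd (Eq.symm h1) h.mul_t_eq
    · have h2 : φ x = φ y := h1
      rw [Subtype.ext (h.inj h2)]
  · rintro ⟨x, hx⟩
    rw [mem_centralizer_singleton_iff, h.mem_cs] at hx
    obtain ⟨π, hπ, rfl | rfl⟩ := hx
    · exact ⟨(true, ⟨π, hπ⟩), rfl⟩
    · exact ⟨(false, ⟨π, hπ⟩), rfl⟩

theorem card_cs (h : Emb t φ) : Nat.card (Subgroup.centralizer ({φ sg} : Set G)) = 16 := by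
  rw [← Nat.card_congr h.csEquiv, Nat.card_prod, Nat.card_eq_fintype_card (α := {π : P4 // _})]
  rw [card_cs_P4]
  simp

end Emb

theorem card_centralizer_conj {x y : G} (h : IsConj x y) :
    Nat.card (Subgroup.centralizer ({x} : Set G)) = Nat.card (Subgroup.centralizer ({y} : Set G)) := by
  obtain ⟨c, rfl⟩ := isConj_iff.1 h
  rw [← H21.map_conj_card (Subgroup.centralizer ({x} : Set G)) c]
  congr 1
  have : (Subgroup.centralizer ({x} : Set G)).map (MulAut.conj c).toMonoidHom =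
      Subgroup.centralizer ({c * x * c⁻¹} : Set G) := by
    ext w
    rw [H21.mem_map_conj, mem_centralizer_singleton_iff, mem_centralizer_singleton_iff]
    constructor
    · intro hw
      have := congrArg (fun v => c * v * c⁻¹) hw
      simpa [mul_assoc] using this
    · intro hw
      have := congrArg (fun v => c⁻¹ * v * c) hw
      simpa [mul_assoc] using this
  rw [this]

theorem exists_conj_le {p : ℕ} [Fact p.Prime] {K X : Subgroup G} {T : Sylow p G}
    (hT : (T : Subgroup G) ≤ K) (hX : IsPGroup p X) (hXK : X ≤ K) :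
    ∃ k ∈ K, X.map (MulAut.conj k).toMonoidHom ≤ (T : Subgroup G) := by
  have h1 : IsPGroup p (X.subgroupOf K) := hX.comap_subtype
  obtain ⟨Q, hQ⟩ := h1.exists_le_sylow
  obtain ⟨k, hk⟩ := MulAction.exists_smul_eq K Q (T.subtype hT)
  refine ⟨k, k.2, ?_⟩
  rintro _ ⟨x, hx, rfl⟩
  have h2 : (⟨x, hXK hx⟩ : K) ∈ Q := hQ hx
  have h3 : k * ⟨x, hXK hx⟩ * k⁻¹ ∈ (T.subtype hT : Subgroup K) := by
    rw [← hk, H21.mem_smul_sylow]
    have e1 : k⁻¹ * (k * ⟨x, hXK hx⟩ * k⁻¹) * k = (⟨x, hXK hx⟩ : K) := by group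
    rw [e1]
    exact h2
  rw [Sylow.coe_subtype, Subgroup.mem_subgroupOf] at h3
  exact h3

namespace Emb

variable {t : G} {φ : P4 →* G}

theorem not_conj_s (h : Emb t φ) : ¬ IsConj t (φ sg) := by
  intro hc
  have := card_centralizer_conj hc
  rw [h.card_cent, h.card_cs] at this
  omega

theorem comm_T (h : Emb t φ) {a b : G} (ha : a * φ sg = φ sg * a) (hb : b * φ sg = φ sg * b) :
    a * b * a⁻¹ * b⁻¹ = 1 ∨ a * b * a⁻¹ * b⁻¹ = φ sg := by
  obtain ⟨π, hπ, hπ'⟩ := h.mem_cs.1 ha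
  obtain ⟨ρ, hρ, hρ'⟩ := h.mem_cs.1 hb
  exact h.toPreEmb.comm_T hπ hρ hπ' hρ'

variable {T : Sylow 2 G}

theorem normalizer_T_le (h : Emb t φ) (hT : (T : Subgroup G) = Subgroup.centralizer ({φ sg} : Set G)) {n : G}
    (hn : n ∈ Subgroup.normalizer ((T : Subgroup G) : Set G)) : n ∈ (T : Subgroup G) := by
  have mT : ∀ x, x ∈ (T : Subgroup G) ↔ x * φ sg = φ sg * x := by
    intro x; rw [hT, mem_centralizer_singleton_iff]
  have h1 : φ sg = φ rc * φ ta * (φ rc)⁻¹ * (φ ta)⁻¹ := by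
    rw [← map_inv, ← map_inv, ← map_mul, ← map_mul, ← map_mul, ← comm_rc_ta]
  have h2 : φ rc ∈ (T : Subgroup G) := by
    rw [mT, ← map_mul, ← map_mul, rc_sg]
  have h3 : φ ta ∈ (T : Subgroup G) := by
    rw [mT, ← map_mul, ← map_mul, ta_sg]
  have h4 := (Subgroup.mem_normalizer_iff.1 hn _).1 h2
  have h5 := (Subgroup.mem_normalizer_iff.1 hn _).1 h3
  rw [mT] at h4 h5
  have h6 : n * φ sg * n⁻¹ = (n * φ rc * n⁻¹) * (n * φ ta * n⁻¹) * (n * φ rc * n⁻¹)⁻¹ * (n * φ ta * n⁻¹)⁻¹ := by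
    nth_rewrite 1 [h1]
    group
  rw [mT]
  rcases h.comm_T h4 h5 with h7 | h7
  · exfalso
    rw [h7] at h6
    apply h.map_ne_one (π := sg) (by decide)
    have := congrArg (fun w => n⁻¹ * w * n) h6
    simpa [mul_assoc] using this
  · rw [h7] at h6
    exact mul_inv_eq_iff_eq_mul.1 h6

theorem not_conj_ts (h : Emb t φ) (hT : (T : Subgroup G) = Subgroup.centralizer ({φ sg} : Set G)) :
    ¬ IsConj t (φ sg * t) := by
  intro hc
  obtain ⟨g, hg⟩ := isConj_iff.1 hc
  have mT : ∀ x, x ∈ (T : Subgroup G) ↔ x * φ sg = φ sg * x := by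
    intro x; rw [hT, mem_centralizer_singleton_iff]
  have hct : t ∈ Subgroup.centralizer ((T : Subgroup G) : Set G) := by
    rw [Subgroup.mem_centralizer_iff]
    intro x hx
    exact h.cs x ((mT x).1 hx)
  have hcst : φ sg * t ∈ Subgroup.centralizer ((T : Subgroup G) : Set G) := by
    rw [Subgroup.mem_centralizer_iff]
    intro x hx
    have h1 := (mT x).1 hx
    rw [← mul_assoc, h1, mul_assoc, h.cs x h1, mul_assoc]
  haveI : Fact (Nat.Prime 2) := ⟨Nat.prime_two⟩
  obtain ⟨n, hn, hgn⟩ := Sylow.conj_eq_normalizer_conj_of_mem_centralizer T t g⁻¹ hct (by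
    rw [inv_inv, hg]; exact hcst)
  rw [inv_inv, hg] at hgn
  have h1 := h.normalizer_T_le hT hn
  have h2 := h.cs n ((mT n).1 h1)
  have h3 : n⁻¹ * t * n = t := by rw [mul_assoc, ← h2, inv_mul_cancel_left]
  rw [h3] at hgn
  apply h.map_ne_one (π := sg) (by decide)
  have := congrArg (fun w => w * t⁻¹) hgn
  simpa using this

theorem conj_va (φ : P4 →* G) : IsConj (φ sg) (φ va) := by
  rw [isConj_iff]
  rcases va_conj with h | h
  · exact ⟨φ th, by rw [← map_inv, ← map_mul, ← map_mul, h]⟩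
  · exact ⟨φ th⁻¹, by rw [← map_inv, ← map_mul, ← map_mul, inv_inv, h]⟩

theorem conj_vb (φ : P4 →* G) : IsConj (φ sg) (φ vb) := by
  rw [isConj_iff]
  rcases vb_conj with h | h
  · exact ⟨φ th, by rw [← map_inv, ← map_mul, ← map_mul, h]⟩
  · exact ⟨φ th⁻¹, by rw [← map_inv, ← map_mul, ← map_mul, inv_inv, h]⟩

theorem conj_tb (φ : P4 →* G) : IsConj (φ ta) (φ tb) := by
  rw [isConj_iff]
  exact ⟨φ rc, by rw [← map_inv, ← map_mul, ← map_mul, rc_ta]⟩

theorem conj_mul_t (h : Emb t φ) {a b : P4} (hab : ∃ c, c * a * c⁻¹ = b) : IsConj (φ a * t) (φ b * t) := by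
  obtain ⟨c, rfl⟩ := hab
  rw [isConj_iff]
  refine ⟨φ c, ?_⟩
  rw [map_mul, map_mul, map_inv]
  calc φ c * (φ a * t) * (φ c)⁻¹ = φ c * φ a * (t * (φ c)⁻¹) := by group
    _ = φ c * φ a * ((φ c)⁻¹ * t) := by
        congr 1
        rw [← map_inv, h.comm]
    _ = _ := by group

/-- The conjugates of `t` in `T` other than `t`. -/
theorem eq_of_conj_mem (h : Emb t φ) (hT : (T : Subgroup G) = Subgroup.centralizer ({φ sg} : Set G)) {w : G}
    (hw : w ∈ (T : Subgroup G)) (hwt : IsConj t w) (hne : w ≠ t) :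
    w = φ ta ∨ w = φ ta * t ∨ w = φ tb ∨ w = φ tb * t := by
  have hww : w * w = 1 := by
    obtain ⟨g, rfl⟩ := isConj_iff.1 hwt
    have : g * t * g⁻¹ * (g * t * g⁻¹) = g * (t * t) * g⁻¹ := by group
    rw [this, h.t_sq]; group
  have hw1 : w ≠ 1 := by
    rintro rfl
    exact h.t_ne (isConj_one_right.1 hwt.symm)
  rw [hT, mem_centralizer_singleton_iff, h.mem_cs] at hw
  obtain ⟨π, hπ, hw⟩ := hw
  have hsq : ∀ ρ : P4, (φ ρ * t) * (φ ρ * t) = φ (ρ * ρ) := by
    intro ρ
    calc (φ ρ * t) * (φ ρ * t) = φ ρ * (t * φ ρ) * t := by group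
      _ = φ ρ * φ ρ * (t * t) := by rw [← h.comm]; group
      _ = φ (ρ * ρ) := by rw [h.t_sq, mul_one, map_mul]
  have hsgt : IsConj (φ sg) t → False := fun hc => h.not_conj_s hc.symm
  have hts := h.not_conj_ts hT
  rcases cent_sg π hπ with rfl | rfl | rfl | rfl | rfl | rfl | rfl | rfl
  · rcases hw with hw | hw
    · rw [map_one] at hw; exact absurd hw hw1
    · rw [map_one, one_mul] at hw; exact absurd hw hne
  · rcases hw with hw | hw
    · rw [hw] at hwt; exact absurd hwt h.not_conj_s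
    · rw [hw] at hwt; exact absurd hwt hts
  · rcases hw with hw | hw
    · rw [hw] at hwt; exact absurd (hwt.trans (conj_va φ).symm) h.not_conj_s
    · rw [hw] at hwt
      refine absurd (hwt.trans (IsConj.symm (h.conj_mul_t ?_))) hts
      rcases va_conj with h1 | h1
      · exact ⟨th, h1⟩
      · exact ⟨th⁻¹, by rw [inv_inv]; exact h1⟩
  · rcases hw with hw | hw
    · rw [hw] at hwt; exact absurd (hwt.trans (conj_vb φ).symm) h.not_conj_s
    · rw [hw] at hwt
      refine absurd (hwt.trans (IsConj.symm (h.conj_mul_t ?_))) hts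
      rcases vb_conj with h1 | h1
      · exact ⟨th, h1⟩
      · exact ⟨th⁻¹, by rw [inv_inv]; exact h1⟩
  · tauto
  · tauto
  · exfalso
    rcases hw with hw | hw
    · rw [hw, ← map_mul, rc_sq] at hww
      exact h.map_ne_one (π := sg) (by decide) hww
    · rw [hw, hsq, rc_sq] at hww
      exact h.map_ne_one (π := sg) (by decide) hww
  · exfalso
    rcases hw with hw | hw
    · rw [hw, ← map_mul, rc_cube_sq] at hww
      exact h.map_ne_one (π := sg) (by decide) hww
    · rw [hw, hsq, rc_cube_sq] at hww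
      exact h.map_ne_one (π := sg) (by decide) hww

/-- The second elementary abelian subgroup of order 8. -/
def B (T : Sylow 2 G) (φ : P4 →* G) : Subgroup G := (T : Subgroup G) ⊓ Subgroup.centralizer ({φ ta} : Set G)

theorem mem_B (h : Emb t φ) (hT : (T : Subgroup G) = Subgroup.centralizer ({φ sg} : Set G)) {x : G} :
    x ∈ B T φ ↔ ∃ π, π * sg = sg * π ∧ π * ta = ta * π ∧ (x = φ π ∨ x = φ π * t) := by
  rw [B, Subgroup.mem_inf, hT, mem_centralizer_singleton_iff, mem_centralizer_singleton_iff, h.mem_cs]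
  constructor
  · rintro ⟨⟨π, hπ, hx⟩, hc⟩
    refine ⟨π, hπ, ?_, hx⟩
    apply h.inj
    rw [map_mul, map_mul]
    rcases hx with rfl | rfl
    · exact hc
    · have h1 : φ π * t * φ ta = φ π * φ ta * t := by rw [mul_assoc, ← h.comm, mul_assoc]
      have h2 : φ ta * (φ π * t) = φ ta * φ π * t := by rw [mul_assoc]
      rw [h1, h2] at hc
      exact mul_right_cancel hc
  · rintro ⟨π, hπ, hπ', hx⟩
    refine ⟨⟨π, hπ, hx⟩, ?_⟩
    rcases hx with rfl | rfl
    · rw [← map_mul, ← map_mul, hπ']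
    · rw [mul_assoc, ← h.comm, ← mul_assoc, ← mul_assoc, ← map_mul, ← map_mul, hπ']

theorem B_comm (h : Emb t φ) (hT : (T : Subgroup G) = Subgroup.centralizer ({φ sg} : Set G)) {x y : G}
    (hx : x ∈ B T φ) (hy : y ∈ B T φ) : x * y = y * x := by
  obtain ⟨π, h1, h2, h3⟩ := (h.mem_B hT).1 hx
  obtain ⟨ρ, h4, h5, h6⟩ := (h.mem_B hT).1 hy
  have hc : φ π * φ ρ = φ ρ * φ π := by
    rw [← map_mul, comm_cent_ta π h1 h2 ρ h4 h5, map_mul]
  have c1 := h.comm π
  have c2 := h.comm ρ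
  have hc' : Commute (φ π) (φ ρ) := hc
  have c1' : Commute (φ π) t := c1
  have c2' : Commute (φ ρ) t := c2
  rcases h3 with rfl | rfl <;> rcases h6 with rfl | rfl
  · exact hc
  · exact (hc'.mul_right c1').eq
  · exact (Commute.mul_left hc' c2'.symm).eq
  · exact (Commute.mul_left (hc'.mul_right c1') (c2'.symm.mul_right (Commute.refl t))).eq

/-- Elements of `T` commuting with a conjugate `w ≠ t` of `t` in `T` lie in `B`. -/
theorem mem_B_of_comm (h : Emb t φ) (hT : (T : Subgroup G) = Subgroup.centralizer ({φ sg} : Set G)) {x w : G}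
    (hw : w = φ ta ∨ w = φ ta * t ∨ w = φ tb ∨ w = φ tb * t) (hx : x ∈ (T : Subgroup G)) (hxw : x * w = w * x) :
    x ∈ B T φ := by
  have hx' := hx
  rw [hT, mem_centralizer_singleton_iff] at hx'
  have hxt := h.cs x hx'
  rw [h.mem_cs] at hx'
  obtain ⟨π, hπ, hxe⟩ := hx'
  rw [h.mem_B hT]
  refine ⟨π, hπ, ?_, hxe⟩
  have aux : ∀ ρ : P4, x * φ ρ = φ ρ * x → π * ρ = ρ * π := by
    intro ρ hc
    apply h.inj
    rw [map_mul, map_mul]
    rcases hxe with rfl | rfl
    · exact hc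
    · have h1 : φ π * t * φ ρ = φ π * φ ρ * t := by rw [mul_assoc, ← h.comm, mul_assoc]
      have h2 : φ ρ * (φ π * t) = φ ρ * φ π * t := by rw [mul_assoc]
      rw [h1, h2] at hc
      exact mul_right_cancel hc
  have aux2 : ∀ ρ : P4, x * (φ ρ * t) = (φ ρ * t) * x → π * ρ = ρ * π := by
    intro ρ hc
    apply aux
    have h1 : φ ρ * t * x = φ ρ * x * t := by rw [mul_assoc, ← hxt, mul_assoc]
    rw [h1, ← mul_assoc] at hc
    exact mul_right_cancel hc
  rcases hw with rfl | rfl | rfl | rfl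
  · exact aux _ hxw
  · exact aux2 _ hxw
  · exact (cent_ta_tb π hπ).2 (aux _ hxw)
  · exact (cent_ta_tb π hπ).2 (aux2 _ hxw)

theorem t_mem_B (h : Emb t φ) (hT : (T : Subgroup G) = Subgroup.centralizer ({φ sg} : Set G)) :
    t ∈ B T φ := by
  rw [h.mem_B hT]
  exact ⟨1, by simp, by simp, Or.inr (by simp)⟩

/-- A conjugate `u` of `t` among `φ ta`, `φ ta * t` is conjugate to `t` in `N(B)`. -/
theorem exists_normalizer (h : Emb t φ) (hT : (T : Subgroup G) = Subgroup.centralizer ({φ sg} : Set G)) {u : G}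
    (hu : u = φ ta ∨ u = φ ta * t) (huc : IsConj t u) :
    ∃ n ∈ Subgroup.normalizer (B T φ : Set G), n * u * n⁻¹ = t := by
  haveI : Fact (Nat.Prime 2) := ⟨Nat.prime_two⟩
  obtain ⟨g, hg⟩ := isConj_iff.1 huc.symm
  have huB : u ∈ B T φ := by
    rw [h.mem_B hT]
    exact ⟨ta, ta_sg, rfl, hu⟩
  have hTt : (T : Subgroup G) ≤ Subgroup.centralizer ({t} : Set G) := by
    intro x hx
    rw [hT, mem_centralizer_singleton_iff] at hx
    rw [mem_centralizer_singleton_iff]
    exact h.cs x hx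
  have hXC : (B T φ).map (MulAut.conj g).toMonoidHom ≤ Subgroup.centralizer ({t} : Set G) := by
    rintro _ ⟨b, hb, rfl⟩
    rw [mem_centralizer_singleton_iff]
    show g * b * g⁻¹ * t = t * (g * b * g⁻¹)
    rw [← hg]
    have h1 := h.B_comm hT hb huB
    calc g * b * g⁻¹ * (g * u * g⁻¹) = g * (b * u) * g⁻¹ := by group
      _ = g * (u * b) * g⁻¹ := by rw [h1]
      _ = _ := by group
  have hXp : IsPGroup 2 ((B T φ).map (MulAut.conj g).toMonoidHom) :=
    (T.isPGroup'.to_le inf_le_left).map _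
  obtain ⟨k, hk, hkX⟩ := exists_conj_le hTt hXp hXC
  rw [← H21.map_conj_mul] at hkX
  rw [mem_centralizer_singleton_iff] at hk
  have hu2 : (k * g) * u * (k * g)⁻¹ = t := by
    have : (k * g) * u * (k * g)⁻¹ = k * (g * u * g⁻¹) * k⁻¹ := by group
    rw [this, hg, hk, mul_inv_cancel_right]
  refine ⟨k * g, ?_, hu2⟩
  set m := k * g with hm
  have hw : m * t * m⁻¹ ∈ (T : Subgroup G) := hkX ⟨t, h.t_mem_B hT, rfl⟩
  have hwne : m * t * m⁻¹ ≠ t := by
    intro hc
    have h1 : m * t * m⁻¹ = m * u * m⁻¹ := by rw [hc, hu2]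
    have h2 : t = u := mul_left_cancel (mul_right_cancel h1)
    rcases hu with h3 | h3
    · exact h.notMem ta (h3.symm.trans h2.symm)
    · rw [← h2] at h3
      exact h.map_ne_one (π := ta) (by decide) (by simpa using h3.symm)
  have hw' := h.eq_of_conj_mem hT hw (isConj_iff.2 ⟨m, rfl⟩) hwne
  apply H21.mem_normalizer_of_map_conj_le
  intro x hx
  obtain ⟨b, hb, rfl⟩ := hx
  apply h.mem_B_of_comm hT hw' (hkX ⟨b, hb, rfl⟩)
  show m * b * m⁻¹ * (m * t * m⁻¹) = (m * t * m⁻¹) * (m * b * m⁻¹)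
  have h1 := h.B_comm hT hb (h.t_mem_B hT)
  calc m * b * m⁻¹ * (m * t * m⁻¹) = m * (b * t) * m⁻¹ := by group
      _ = m * (t * b) * m⁻¹ := by rw [h1]
      _ = _ := by group

/-- Not both `φ ta` and `φ ta * t` are conjugate to `t`. -/
theorem not_both (h : Emb t φ) (hT : (T : Subgroup G) = Subgroup.centralizer ({φ sg} : Set G))
    (h1 : IsConj t (φ ta)) (h2 : IsConj t (φ ta * t)) : False := by
  obtain ⟨n, hn, hnt⟩ := h.exists_normalizer hT (Or.inl rfl) h1
  have hts := h.not_conj_ts hT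
  have h3 : IsConj t (φ tb) := h1.trans (conj_tb φ)
  have h4 : IsConj t (φ tb * t) := h2.trans (h.conj_mul_t ⟨rc, rc_ta⟩)
  have hsB : φ sg ∈ B T φ := (h.mem_B hT).2 ⟨sg, rfl, ta_sg.symm, Or.inl rfl⟩
  have hstB : φ sg * t ∈ B T φ := (h.mem_B hT).2 ⟨sg, rfl, ta_sg.symm, Or.inr rfl⟩
  have hs1 : φ sg ≠ 1 := h.map_ne_one (by decide)
  have key : ∀ x ∈ B T φ, x ≠ 1 → ¬ IsConj t x → x = φ sg ∨ x = φ sg * t := by
    intro x hx hx1 hxt
    obtain ⟨π, a, b, c⟩ := (h.mem_B hT).1 hx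
    rcases cent_ta π a b with rfl | rfl | rfl | rfl
    · rcases c with rfl | rfl
      · simp at hx1
      · rw [map_one, one_mul] at hxt
        exact absurd (IsConj.refl t) hxt
    · exact c
    · rcases c with rfl | rfl
      · exact absurd h1 hxt
      · exact absurd h2 hxt
    · rcases c with rfl | rfl
      · exact absurd h3 hxt
      · exact absurd h4 hxt
  have hconjB : ∀ x ∈ B T φ, n * x * n⁻¹ ∈ B T φ := fun x hx => (Subgroup.mem_normalizer_iff.1 hn x).1 hx
  have hne1 : ∀ x, x ≠ 1 → n * x * n⁻¹ ≠ 1 := by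
    intro x hx hc
    apply hx
    have := congrArg (fun w => n⁻¹ * w * n) hc
    simpa [mul_assoc] using this
  have hnc : ∀ x, ¬ IsConj t x → ¬ IsConj t (n * x * n⁻¹) := by
    intro x hx hc
    exact hx (hc.trans (isConj_iff.2 ⟨n⁻¹, by group⟩))
  have hst1 : φ sg * t ≠ 1 := by
    intro hc
    rw [mul_eq_one_iff_eq_inv, h.t_inv] at hc
    exact h.notMem _ hc
  have k1 := key _ (hconjB _ hsB) (hne1 _ hs1) (hnc _ h.not_conj_s)
  have k2 := key _ (hconjB _ hstB) (hne1 _ hst1) (hnc _ hts)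
  have hss : φ sg * φ sg = 1 := sg_sq φ
  have e1 : n * t * n⁻¹ = (n * φ sg * n⁻¹) * (n * (φ sg * t) * n⁻¹) := by
    calc n * t * n⁻¹ = n * ((φ sg * φ sg) * t) * n⁻¹ := by rw [hss, one_mul]
      _ = _ := by group
  have hne : n * φ sg * n⁻¹ ≠ n * (φ sg * t) * n⁻¹ := by
    intro hc
    have h5 := mul_left_cancel (mul_right_cancel hc)
    exact h.t_ne (by simpa using h5.symm)
  have e2 : n * t * n⁻¹ = t := by
    rcases k1 with k1 | k1 <;> rcases k2 with k2 | k2
    · exact absurd (k1.trans k2.symm) hne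
    · rw [e1, k1, k2, ← mul_assoc, hss, one_mul]
    · rw [e1, k1, k2, mul_assoc, ← h.comm, ← mul_assoc, hss, one_mul]
    · exact absurd (k1.trans k2.symm) hne
  have e3 : n * t * n⁻¹ = n * φ ta * n⁻¹ := by rw [e2, hnt]
  exact h.notMem ta (mul_left_cancel (mul_right_cancel e3)).symm

/-- Changing the embedding by a homomorphism to `⟨t⟩`. -/
theorem twist (h : Emb t φ) (P : P4 → Prop) (hP1 : P 1) (hP : ∀ a b, P (a * b) ↔ (P a ↔ P b)) :
    ∃ ψ : P4 →* G, Emb t ψ ∧ (∀ a, P a → ψ a = φ a) ∧ (∀ a, ¬ P a → ψ a = φ a * t) := by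
  classical
  let ψ : P4 →* G :=
    { toFun := fun a => if P a then φ a else φ a * t
      map_one' := by simp [hP1]
      map_mul' := by
        intro a b
        by_cases ha : P a <;> by_cases hb : P b
        · have : P (a * b) := (hP a b).2 (by tauto)
          simp only [ha, hb, this, if_true, map_mul]
        · have : ¬ P (a * b) := fun hc => by have := (hP a b).1 hc; tauto
          simp only [ha, hb, this, if_true, if_false, map_mul, mul_assoc]
        · have : ¬ P (a * b) := fun hc => by have := (hP a b).1 hc; tauto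
          simp only [ha, hb, this, if_true, if_false, map_mul]
          rw [mul_assoc, mul_assoc, h.comm]
        · have : P (a * b) := (hP a b).2 (by tauto)
          simp only [ha, hb, this, if_true, if_false, map_mul]
          calc φ a * φ b = φ a * φ b * (t * t) := by rw [h.t_sq, mul_one]
            _ = φ a * (φ b * t) * t := by group
            _ = φ a * (t * φ b) * t := by rw [h.comm]
            _ = φ a * t * (φ b * t) := by group }
  have e1 : ∀ a, P a → ψ a = φ a := fun a ha => if_pos ha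
  have e2 : ∀ a, ¬ P a → ψ a = φ a * t := fun a ha => if_neg ha
  have hψ : ∀ a, ψ a = φ a ∨ ψ a = φ a * t := by
    intro a
    by_cases ha : P a
    · exact Or.inl (e1 a ha)
    · exact Or.inr (e2 a ha)
  have hPsg : P sg := by
    have h1 : sg = rc * rc := rc_sq.symm
    rw [h1, hP]
  have hcomm : ∀ a, ψ a * t = t * ψ a := by
    intro a
    rcases hψ a with h1 | h1
    · rw [h1, h.comm]
    · rw [h1, h.comm, mul_assoc, h.comm]
  refine ⟨ψ, ⟨⟨?_, hcomm, h.ord, ?_, ?_⟩, ?_⟩, e1, e2⟩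
  · rw [injective_iff_map_eq_one]
    intro a ha
    by_contra ha1
    rcases hψ a with h1 | h1
    · exact h.map_ne_one ha1 (h1 ▸ ha)
    · rw [h1, mul_eq_one_iff_eq_inv, h.t_inv] at ha
      exact h.notMem _ ha
  · intro a hc
    rcases hψ a with h1 | h1
    · exact h.notMem a (h1 ▸ hc)
    · have h2 : φ a = 1 := by
        rw [h1] at hc
        simpa using hc
      have h3 : a = 1 := h.inj (h2.trans (map_one φ).symm)
      rw [h3, map_one] at hc
      exact h.t_ne hc.symm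
  · intro x hx
    obtain ⟨a, ha⟩ := h.surj x hx
    refine ⟨a, ?_⟩
    by_cases hPa : P a
    · rw [e1 a hPa]; exact ha
    · rw [e2 a hPa, mul_assoc, h.t_sq, mul_one]; tauto
  · intro x hx
    rw [e1 sg hPsg] at hx
    exact h.cs x hx

/-- We may choose the embedding such that `φ ta` is not conjugate to `t`. -/
theorem exists_good (h : Emb t φ) (hT : (T : Subgroup G) = Subgroup.centralizer ({φ sg} : Set G)) :
    ∃ ψ : P4 →* G, Emb t ψ ∧ ψ sg = φ sg ∧ ¬ IsConj t (ψ ta) := by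
  by_cases h1 : IsConj t (φ ta)
  · obtain ⟨ψ, hψ, e1, e2⟩ := h.twist (fun a => Perm.sign a = 1) (by simp) (by
      intro a b
      rcases Int.units_eq_one_or (Perm.sign a) with ha | ha <;>
      rcases Int.units_eq_one_or (Perm.sign b) with hb | hb <;>
      simp [Perm.sign_mul, ha, hb])
    refine ⟨ψ, hψ, e1 sg (by decide +kernel), ?_⟩
    rw [e2 ta (by decide +kernel)]
    intro h2
    exact h.not_both hT h1 h2
  · exact ⟨φ, h, rfl, h1⟩

/-- There is a normal subgroup of index two not containing `t`. -/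
theorem exists_index_two (h : Emb t φ) (hT : (T : Subgroup G) = Subgroup.centralizer ({φ sg} : Set G)) :
    ∃ M : Subgroup G, M.Normal ∧ M.index = 2 ∧ t ∉ M := by
  obtain ⟨ψ, hψ, hsg, hta⟩ := h.exists_good hT
  have hT' : (T : Subgroup G) = Subgroup.centralizer ({ψ sg} : Set G) := by rw [hsg, hT]
  have mT : ∀ x, x ∈ (T : Subgroup G) ↔ x * ψ sg = ψ sg * x := by
    intro x; rw [hT', mem_centralizer_singleton_iff]
  set D : Subgroup G := (T : Subgroup G) ⊓ ψ.range with hD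
  have htT : t ∈ (T : Subgroup G) := by
    rw [mT, hψ.comm]
  have htD : t ∉ D := by
    rintro ⟨-, π, hπ⟩
    exact hψ.notMem π hπ
  have hidx : D.relIndex (T : Subgroup G) = 2 := by
    rw [Subgroup.relIndex, Subgroup.index_eq_two_iff_exists_notMem_and']
    refine ⟨⟨t, htT⟩, fun hc => htD hc, fun b => ?_⟩
    have hb := (mT b).1 b.2
    obtain ⟨π, hπ, hb'⟩ := hψ.mem_cs.1 hb
    rcases hb' with hb' | hb'
    · right
      rw [Subgroup.mem_subgroupOf]
      exact ⟨b.2, π, hb'.symm⟩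
    · left
      rw [Subgroup.mem_subgroupOf]
      refine ⟨mul_mem htT b.2, π, ?_⟩
      show ψ π = t * b
      rw [hb', hψ.comm, ← mul_assoc, hψ.t_sq, one_mul]
  rcases S0111.result T D inf_le_left hidx t hψ.ord htT htD with h1 | ⟨g, hg⟩
  · exact h1
  · exfalso
    have hc : IsConj t (g * t * g⁻¹) := isConj_iff.2 ⟨g, rfl⟩
    have hne : g * t * g⁻¹ ≠ t := fun hc => htD (hc ▸ hg)
    have h2 := hψ.eq_of_conj_mem hT' hg.1 hc hne
    obtain ⟨-, π, hπ⟩ := hg
    rcases h2 with h2 | h2 | h2 | h2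
    · rw [h2] at hc; exact hta hc
    · rw [h2] at hπ; exact hψ.mul_t_eq hπ.symm
    · rw [h2] at hc; exact hta (hc.trans (conj_tb ψ).symm)
    · rw [h2] at hπ; exact hψ.mul_t_eq hπ.symm

end Emb

/-- The embedding with image in a normal subgroup of index two. -/
structure Emb2 (t : G) (φ : P4 →* G) (N : Subgroup G) : Prop extends Emb t φ where
  idx : N.index = 2
  t_notMem : t ∉ N
  mem : ∀ a, φ a ∈ N

theorem Emb.exists_emb2 {t : G} {φ : P4 →* G} (h : Emb t φ) {N : Subgroup G} (hN : N.index = 2) (ht : t ∉ N) :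
    ∃ ψ : P4 →* G, Emb2 t ψ N := by
  obtain ⟨ψ, hψ, e1, e2⟩ := h.twist (fun a => φ a ∈ N) (by rw [map_one]; exact one_mem _) (by
      intro a b
      rw [map_mul, Subgroup.mul_mem_iff_of_index_two hN])
  refine ⟨ψ, hψ, hN, ht, ?_⟩
  intro a
  by_cases ha : φ a ∈ N
  · rw [e1 a ha]; exact ha
  · rw [e2 a ha]
    exact (Subgroup.mul_mem_iff_of_index_two hN).2 (by tauto)

end Cfsg.Agent.DihSyl.Six
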