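import Mathlib
import Cfsg.Agent.DihSyl.SixSym
import Cfsg.Agent.H17.Order168e
import Cfsg.Agent.AutAlt.Basic

/-!
# Groups with an involution with centralizer `ℤ₂ × S₄`, continued
-/

set_option autoImplicit false
set_option linter.style.haveILetI false
set_option linter.unusedSectionVars false

namespace Cfsg.Agent.DihSyl.Six

open Subgroup Equiv

universe u

variable {G : Type u} [Group G] [Finite G] {t : G} {φ : P4 →* G} {N : Subgroup G}

namespace Emb2

/-- The embedding of `S₄` in `N`. -/
def toN (h : Emb2 t φ N) : P4 →* N := φ.codRestrict N h.mem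

@[simp] theorem coe_toN (h : Emb2 t φ N) (a : P4) : (h.toN a : G) = φ a := rfl

theorem toN_injective (h : Emb2 t φ N) : Function.Injective h.toN := by
  intro a b hab
  exact h.inj (congrArg Subtype.val hab)

theorem eq_of_mem (h : Emb2 t φ N) {x : G} (hx : x ∈ N) (hc : x * t = t * x) : ∃ a, x = φ a := by
  obtain ⟨a, ha | ha⟩ := h.surj x hc
  · exact ⟨a, ha⟩
  · exfalso
    apply h.t_notMem
    rw [ha] at hx
    have := N.mul_mem (N.inv_mem (h.mem a)) hx
    rwa [inv_mul_cancel_left] at this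

theorem center_eq_bot (h : Emb2 t φ N) (hne : Subgroup.centralizer ({t} : Set G) ≠ ⊤) :
    Subgroup.center G = ⊥ := by
  rw [eq_bot_iff]
  intro k hk
  rw [Subgroup.mem_center_iff] at hk
  obtain ⟨a, ha⟩ := h.surj k (hk t).symm
  have ha1 : a = 1 := by
    apply center_P4
    intro b
    apply h.inj
    rw [map_mul, map_mul]
    have h1 := hk (φ b)
    rcases ha with rfl | rfl
    · exact h1.symm
    · rw [mul_assoc, ← h.comm, ← mul_assoc, ← mul_assoc] at h1
      exact (mul_right_cancel h1).symm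
  rw [ha1, map_one, one_mul] at ha
  rcases ha with rfl | rfl
  · exact one_mem _
  · exfalso
    apply hne
    rw [eq_top_iff]
    intro x _
    rw [mem_centralizer_singleton_iff]
    exact hk x

/-- Normal subgroups meeting `N` trivially are trivial. -/
theorem eq_bot_of_inf (h : Emb2 t φ N) (hne : Subgroup.centralizer ({t} : Set G) ≠ ⊤) {K : Subgroup G}
    [K.Normal] (hK : K ⊓ N = ⊥) : K = ⊥ := by
  haveI : N.Normal := Subgroup.normal_of_index_eq_two h.idx
  rw [eq_bot_iff, ← h.center_eq_bot hne]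
  intro k hk
  rw [Subgroup.mem_center_iff]
  intro x
  by_cases hkN : k ∈ N
  · have : k ∈ K ⊓ N := ⟨hk, hkN⟩
    rw [hK, mem_bot] at this
    rw [this]; simp
  · have h1 : x * k * x⁻¹ ∈ K := (inferInstance : K.Normal).conj_mem k hk x
    have h2 : x * k * x⁻¹ ∉ N := by
      intro hc
      apply hkN
      have := (inferInstance : N.Normal).conj_mem _ hc x⁻¹
      simpa [mul_assoc] using this
    have h3 : x * k * x⁻¹ * k⁻¹ ∈ K ⊓ N := by
      refine Subgroup.mem_inf.2 ⟨K.mul_mem h1 (K.inv_mem hk), ?_⟩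
      have h7 : k⁻¹ ∉ N := fun hc => hkN (by have := inv_mem hc; rwa [inv_inv] at this)
      exact (Subgroup.mul_mem_iff_of_index_two h.idx).2 (by tauto)
    rw [hK, mem_bot] at h3
    have h4 := mul_inv_eq_one.1 h3
    exact mul_inv_eq_iff_eq_mul.1 h4

/-- The centralizer of `s` in `N` is dihedral of order 8. -/
theorem exists_dihedral (h : Emb2 t φ N) :
    Nonempty (Subgroup.centralizer ({h.toN sg} : Set N) ≃* DihedralGroup 4) := by
  set C := Subgroup.centralizer ({h.toN sg} : Set N) with hC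
  have hmem : ∀ x, x ∈ C ↔ ∃ π : P4, π * sg = sg * π ∧ x = h.toN π := by
    intro x
    rw [hC, mem_centralizer_singleton_iff]
    constructor
    · intro hx
      have hx' : (x : G) * φ sg = φ sg * x := congrArg Subtype.val hx
      obtain ⟨a, ha⟩ := h.eq_of_mem x.2 (h.cs x hx')
      refine ⟨a, ?_, Subtype.ext ha⟩
      apply h.inj
      rw [map_mul, map_mul, ← ha, hx']
    · rintro ⟨π, hπ, rfl⟩
      rw [← map_mul, ← map_mul, hπ]
  have hCH : C ≤ h.toN.range := by
    intro x hx
    obtain ⟨π, -, rfl⟩ := (hmem x).1 hx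
    exact ⟨π, rfl⟩
  have e : {π : P4 // π * sg = sg * π} ≃ C := by
    refine Equiv.ofBijective (fun π => ⟨h.toN π, (hmem _).2 ⟨π, π.2, rfl⟩⟩) ⟨?_, ?_⟩
    · intro a b hab
      exact Subtype.ext (h.toN_injective (congrArg Subtype.val hab))
    · rintro ⟨x, hx⟩
      obtain ⟨π, hπ, rfl⟩ := (hmem x).1 hx
      exact ⟨⟨π, hπ⟩, rfl⟩
  have hcard : Nat.card C = 8 := by
    rw [← Nat.card_congr e, Nat.card_eq_fintype_card, card_cs_P4]
  obtain ⟨e2⟩ := H17.D4.nonempty_mulEquiv_of_perm (MonoidHom.ofInjective h.toN_injective).symm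
    (C.subgroupOf h.toN.range) (by
      rw [Nat.card_congr (Subgroup.subgroupOfEquivOfLe hCH).toEquiv, hcard])
  exact ⟨(Subgroup.subgroupOfEquivOfLe hCH).symm.trans e2⟩

theorem orderOf_s (h : Emb2 t φ N) : orderOf (h.toN sg) = 2 := by
  apply orderOf_eq_prime
  · rw [pow_two, ← map_mul, show sg * sg = 1 by decide +kernel, map_one]
  · intro hc
    exact h.toEmb.map_ne_one (π := sg) (by decide) (congrArg Subtype.val hc)

theorem orderOf_th (h : Emb2 t φ N) : orderOf (h.toN th) = 3 := by
  haveI : Fact (Nat.Prime 3) := ⟨by norm_num⟩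
  apply orderOf_eq_prime
  · rw [pow_succ, pow_two, ← map_mul, ← map_mul, th_cube, map_one]
  · intro hc
    exact h.toEmb.map_ne_one (π := th) th_ne (congrArg Subtype.val hc)

theorem exists_data (h : Emb2 t φ N) : ∃ (S : Sylow 2 N) (r s : N), CentD8 S r s (h.toN sg) ∧
    CentD8.Four S (h.toN sg) (H17.O168.V4.map h.toN) (h.toN th) := by
  obtain ⟨e⟩ := h.exists_dihedral
  obtain ⟨S, r, s, hD⟩ := exists_centD8 h.orderOf_s e
  refine ⟨S, r, s, hD, ?_⟩
  have hk : IsKleinFour (H17.O168.V4.map h.toN) :=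
    H17.isKleinFour_of_mulEquiv (H17.O168.V4.equivMapOfInjective _ h.toN_injective) H17.O168.klein_V4
  have hU : H17.O168.V4.map h.toN ≤ (S : Subgroup N) := by
    rintro _ ⟨π, hπ, rfl⟩
    rw [hD.mem_iff, ← map_mul, ← map_mul, V4_comm π hπ.1 hπ.2]
  apply hD.four_of hU hk
  · apply H21.mem_normalizer_of_map_conj_le
    rintro _ ⟨_, ⟨π, hπ, rfl⟩, rfl⟩
    refine ⟨th * π * th⁻¹, H17.O168.normal_V4.conj_mem π hπ th, ?_⟩
    rw [map_mul, map_mul, map_inv]
    rfl
  · rw [h.orderOf_th]; decide
  · intro hc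
    rw [Subgroup.mem_centralizer_iff] at hc
    have h1 := hc (h.toN sg) ⟨sg, by constructor <;> decide +kernel, rfl⟩
    rw [← map_mul, ← map_mul] at h1
    exact th_sg (h.toN_injective h1).symm

theorem normal_perm5 {L : Subgroup (Perm (Fin 5))} [L.Normal] (hL : Nat.card L ∣ 24) : L = ⊥ := by
  haveI : Fact (2 < Nat.card (Fin 5)) := ⟨by simp⟩
  haveI hs : IsSimpleGroup (alternatingGroup (Fin 5)) := inferInstance
  have h1 : L ⊓ alternatingGroup (Fin 5) = ⊥ := by
    have h2 : (L.subgroupOf (alternatingGroup (Fin 5))).Normal := inferInstance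
    rcases h2.eq_bot_or_eq_top with h3 | h3
    · rw [Subgroup.subgroupOf_eq_bot] at h3
      exact disjoint_iff.1 h3
    · exfalso
      rw [Subgroup.subgroupOf_eq_top] at h3
      have h4 := (Subgroup.card_dvd_of_le h3).trans hL
      have h5 := two_mul_nat_card_alternatingGroup (α := Fin 5)
      rw [Nat.card_perm, Nat.card_fin] at h5
      have h6 : (5 : ℕ).factorial = 120 := by decide
      have h7 : Nat.card (alternatingGroup (Fin 5)) = 60 := by omega
      rw [h7] at h4
      revert h4; decide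
  rw [eq_bot_iff]
  intro l hl
  have h2 : ∀ x : Perm (Fin 5), x * l * x⁻¹ = l := by
    intro x
    have h3 : x * l * x⁻¹ * l⁻¹ ∈ L ⊓ alternatingGroup (Fin 5) := by
      refine Subgroup.mem_inf.2 ⟨L.mul_mem ((inferInstance : L.Normal).conj_mem l hl x) (L.inv_mem hl), ?_⟩
      rw [Equiv.Perm.mem_alternatingGroup]
      simp only [Perm.sign_mul, Perm.sign_inv]
      rcases Int.units_eq_one_or (Perm.sign x) with ha | ha <;>
      rcases Int.units_eq_one_or (Perm.sign l) with hb | hb <;> simp [ha, hb]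
    rw [h1, mem_bot] at h3
    exact mul_inv_eq_one.1 h3
  have h3 : (MulAut.conjNormal l : MulAut (alternatingGroup (Fin 5))) = 1 := by
    ext x : 2
    rw [MulAut.conjNormal_apply]
    have h4 : (x : Perm (Fin 5)) * l = l * x := mul_inv_eq_iff_eq_mul.1 (h2 x)
    rw [← h4, mul_inv_cancel_right]
    rfl
  exact AutAlt.conjNormal_injective (by decide) (h3.trans (map_one _).symm)

theorem card_N (h : Emb2 t φ N) : Nat.card N * 2 = Nat.card G := by
  rw [← h.idx]; exact Subgroup.card_mul_index N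

/-- The core of `C(t)` is trivial as soon as its intersection with `N` is. -/
theorem card_le_factorial (h : Emb2 t φ N) (hne : Subgroup.centralizer ({t} : Set G) ≠ ⊤)
    (hK : (Subgroup.centralizer ({t} : Set G)).normalCore ⊓ N = ⊥) :
    Nat.card G ∣ (Subgroup.centralizer ({t} : Set G)).index.factorial := by
  have h1 := h.eq_bot_of_inf hne hK
  have hinj : Function.Injective (MulAction.toPermHom G (G ⧸ Subgroup.centralizer ({t} : Set G))) := by
    rw [← MonoidHom.ker_eq_bot_iff, ← Subgroup.normalCore_eq_ker, h1]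
  have h2 := Subgroup.card_dvd_of_injective _ hinj
  rw [Nat.card_perm] at h2
  exact h2

theorem inf_le_range (h : Emb2 t φ N) : 
    (Subgroup.centralizer ({t} : Set G)).subgroupOf N ≤ h.toN.range := by
  intro x hx
  rw [Subgroup.mem_subgroupOf, mem_centralizer_singleton_iff] at hx
  obtain ⟨a, ha⟩ := h.eq_of_mem x.2 hx
  exact ⟨a, Subtype.ext ha.symm⟩

theorem card_range (h : Emb2 t φ N) : Nat.card h.toN.range = 24 := by
  rw [← Nat.card_congr (MonoidHom.ofInjective h.toN_injective).toEquiv, Nat.card_perm, Nat.card_fin]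
  decide

theorem index_cent (h : Emb2 t φ N) : 
    48 * (Subgroup.centralizer ({t} : Set G)).index = Nat.card G := by
  rw [← h.card_cent]; exact Subgroup.card_mul_index _

/-- The case that `N` has a subgroup of index two. -/
theorem case_index_two (h : Emb2 t φ N) {M : Subgroup N} (hM : M.index = 2) :
    Subgroup.centralizer ({t} : Set G) = ⊤ := by
  obtain ⟨S, r, s, hD, hF⟩ := h.exists_data
  rcases hD.of_index_two hF hM with ⟨⟨e⟩⟩ | ⟨⟨e⟩⟩
  · have h1 : Nat.card N = 24 := by
      rw [Nat.card_congr e.toEquiv, Nat.card_perm, Nat.card_fin]; decide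
    have h2 := h.card_N
    have h3 := h.index_cent
    rw [← Subgroup.index_eq_one]
    omega
  · by_contra hne
    have h1 : Nat.card N = 120 := by
      rw [Nat.card_congr e.toEquiv, Nat.card_perm, Nat.card_fin]; decide
    have h2 := h.card_N
    have h3 := h.index_cent
    have h4 : (Subgroup.centralizer ({t} : Set G)).index = 5 := by omega
    have hK : (Subgroup.centralizer ({t} : Set G)).normalCore ⊓ N = ⊥ := by
      set K := (Subgroup.centralizer ({t} : Set G)).normalCore with hKdef
      haveI : ((K.subgroupOf N).map e.toMonoidHom).Normal :=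
        Subgroup.Normal.map inferInstance _ e.surjective
      have h5 : (K.subgroupOf N).map e.toMonoidHom = ⊥ := by
        apply normal_perm5
        rw [Subgroup.card_map_of_injective e.injective, ← h.card_range]
        apply Subgroup.card_dvd_of_le
        exact le_trans (Subgroup.comap_mono (Subgroup.normalCore_le _)) h.inf_le_range
      rw [Subgroup.map_eq_bot_iff_of_injective _ e.injective, Subgroup.subgroupOf_eq_bot] at h5
      exact disjoint_iff.1 h5
    have h5 := h.card_le_factorial hne hK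
    rw [h4] at h5
    have h6 : (5 : ℕ).factorial = 120 := by decide
    rw [h6] at h5
    have := Nat.le_of_dvd (by norm_num) h5
    omega

/-- Elements outside `N` commuting with `φ sg` and `φ ta`. -/
theorem exists_W4 (h : Emb2 t φ N) {y : G} (hy : y ∉ N) (h1 : y * φ sg = φ sg * y) (h2 : y * φ ta = φ ta * y) :
    ∃ π, (π = 1 ∨ π = sg ∨ π = ta ∨ π = tb) ∧ y = φ π * t := by
  obtain ⟨π, hπ, hy' | hy'⟩ := h.mem_cs.1 h1
  · exact absurd (hy' ▸ h.mem π) hy
  · refine ⟨π, cent_ta π hπ ?_, hy'⟩
    apply h.inj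
    rw [map_mul, map_mul]
    rw [hy', mul_assoc, ← h.comm, ← mul_assoc, ← mul_assoc] at h2
    exact mul_right_cancel h2

theorem klein_W4 : IsKleinFour W4 := by
  apply H17.isKleinFour_of_card_four card_W4
  · intro hc
    have hcard : Nat.card W4 = 4 := card_W4
    obtain ⟨g, hg⟩ := hc.exists_ofOrder_eq_natCard
    rw [hcard] at hg
    have h2 : g ^ 2 = 1 := by
      apply Subtype.ext
      rw [pow_two]
      exact W4_sq _ ((mem_W4 g.1).mp g.2)
    have := orderOf_dvd_of_pow_eq_one h2
    rw [hg] at this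
    norm_num at this

theorem mul_t_comm (h : Emb2 t φ N) {a b : P4} (hab : a * b = b * a) : (φ a * t) * (φ b * t) = (φ b * t) * (φ a * t) := by
  have h1 : ∀ c d : P4, (φ c * t) * (φ d * t) = φ (c * d) := by
    intro c d
    calc (φ c * t) * (φ d * t) = φ c * (t * φ d) * t := by group
      _ = φ c * φ d * (t * t) := by rw [← h.comm]; group
      _ = φ (c * d) := by rw [h.t_sq, mul_one, map_mul]
  rw [h1, h1, hab]

theorem not_card_168 (h : Emb2 t φ N) [IsSimpleGroup N] (hc : Nat.card N = 168) {T : Sylow 2 G}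
    (hT : (T : Subgroup G) = Subgroup.centralizer ({φ sg} : Set G)) : False := by
  haveI hNn : N.Normal := Subgroup.normal_of_index_eq_two h.idx
  haveI : Fact (Nat.Prime 3) := ⟨by norm_num⟩
  have hts := h.toEmb.not_conj_ts hT
  set U : Subgroup N := W4.map h.toN with hU
  have hUk : IsKleinFour U := H17.isKleinFour_of_mulEquiv (W4.equivMapOfInjective _ h.toN_injective) klein_W4
  have hcardU := H17.O168.card_normalizer_klein hc hUk
  obtain ⟨ρ', hρ'⟩ := exists_prime_orderOf_dvd_card' (G := Subgroup.normalizer (U : Set N)) 3 (by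
    rw [hcardU]; norm_num)
  obtain ⟨ρ, hρN⟩ := ρ'
  rw [Subgroup.orderOf_mk] at hρ'
  set x : G := (ρ : G) with hx
  have hx3 : x * x * x = 1 := by
    have : ρ ^ 3 = 1 := by rw [← hρ', pow_orderOf_eq_one]
    have h1 := congrArg Subtype.val this
    rw [pow_succ, pow_two] at h1
    exact h1
  have hxN : x ∈ N := ρ.2
  have hconj : ∀ π : P4, (π = 1 ∨ π = sg ∨ π = ta ∨ π = tb) →
      ∃ π' : P4, (π' = 1 ∨ π' = sg ∨ π' = ta ∨ π' = tb) ∧ x * φ π * x⁻¹ = φ π' := by
    intro π hπ
    obtain ⟨π', h1, h2⟩ := (Subgroup.mem_normalizer_iff.1 hρN (h.toN π)).1 ⟨π, hπ, rfl⟩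
    exact ⟨π', h1, (congrArg Subtype.val h2).symm⟩
  have hconj' : ∀ π : P4, (π = 1 ∨ π = sg ∨ π = ta ∨ π = tb) →
      ∃ π' : P4, (π' = 1 ∨ π' = sg ∨ π' = ta ∨ π' = tb) ∧ x⁻¹ * φ π * x = φ π' := by
    intro π hπ
    obtain ⟨π', h1, h2⟩ := (Subgroup.mem_normalizer_iff.1 (inv_mem hρN) (h.toN π)).1 ⟨π, hπ, rfl⟩
    refine ⟨π', h1, ?_⟩
    have h3 := (congrArg Subtype.val h2).symm
    have h4 : ((ρ⁻¹ * h.toN π * ρ⁻¹⁻¹ : N) : G) = x⁻¹ * φ π * x := by
      rw [inv_inv]; rfl
    rw [← h4]; exact h3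
  -- conjugates of elements commuting with `W4`
  have hstep : ∀ y : G, y ∉ N → (∀ π, (π = 1 ∨ π = sg ∨ π = ta ∨ π = tb) → y * φ π = φ π * y) →
      x * y * x⁻¹ ∉ N ∧ ∀ π, (π = 1 ∨ π = sg ∨ π = ta ∨ π = tb) → (x * y * x⁻¹) * φ π = φ π * (x * y * x⁻¹) := by
    intro y hy hyc
    constructor
    · intro hc
      apply hy
      have := hNn.conj_mem _ hc x⁻¹
      simpa [mul_assoc] using this
    · intro π hπ
      obtain ⟨π', hπ', he⟩ := hconj' π hπ
      have h1 := hyc π' hπ'
      rw [← he] at h1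
      have h2 := congrArg (fun v => x * v * x⁻¹) h1
      simpa [mul_assoc] using h2
  have ht0 : ∀ π : P4, (π = 1 ∨ π = sg ∨ π = ta ∨ π = tb) → t * φ π = φ π * t := fun π _ => (h.comm π).symm
  obtain ⟨h1N, h1c⟩ := hstep t h.t_notMem ht0
  set t1 := x * t * x⁻¹ with ht1
  obtain ⟨h2N, h2c⟩ := hstep t1 h1N h1c
  set t2 := x * t1 * x⁻¹ with ht2
  obtain ⟨π1, hπ1, e1⟩ := h.exists_W4 h1N (h1c sg (by tauto)) (h1c ta (by tauto))
  obtain ⟨π2, hπ2, e2⟩ := h.exists_W4 h2N (h2c sg (by tauto)) (h2c ta (by tauto))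
  have ct1 : IsConj t t1 := isConj_iff.2 ⟨x, rfl⟩
  have ct2 : IsConj t t2 := ct1.trans (isConj_iff.2 ⟨x, rfl⟩)
  have hx2 : x * t2 * x⁻¹ = t := by
    have : x * t2 * x⁻¹ = (x * x * x) * t * (x * x * x)⁻¹ := by rw [ht2, ht1]; group
    rw [this, hx3]; simp
  have hcomm : x * t = t * x := by
    by_cases ha : t1 = t
    · exact mul_inv_eq_iff_eq_mul.1 ha
    exfalso
    have hb : t2 ≠ t := by
      intro hb
      apply ha
      rw [hb] at hx2
      exact hx2
    have hab : t1 ≠ t2 := by
      intro hab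
      apply ha
      have h3 : x * t * x⁻¹ = x * t1 * x⁻¹ := by rw [← ht1, ← ht2]; exact hab
      exact (mul_left_cancel (mul_right_cancel h3)).symm
    have hp1 : π1 = ta ∨ π1 = tb := by
      rcases hπ1 with h3 | h3 | h3 | h3
      · rw [h3, map_one, one_mul] at e1; exact absurd e1 ha
      · rw [h3] at e1; rw [e1] at ct1; exact absurd ct1 hts
      · exact Or.inl h3
      · exact Or.inr h3
    have hp2 : π2 = ta ∨ π2 = tb := by
      rcases hπ2 with h3 | h3 | h3 | h3
      · rw [h3, map_one, one_mul] at e2; exact absurd e2 hb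
      · rw [h3] at e2; rw [e2] at ct2; exact absurd ct2 hts
      · exact Or.inl h3
      · exact Or.inr h3
    have hprod : t * t1 * t2 = φ sg * t := by
      have e3 : t * t1 * t2 = φ (π1 * π2) * t := by
        rw [e1, e2, map_mul]
        calc t * (φ π1 * t) * (φ π2 * t) = (t * φ π1) * (t * φ π2) * t := by group
          _ = (φ π1 * t) * (t * φ π2) * t := by rw [h.comm]
          _ = φ π1 * (t * t) * φ π2 * t := by group
          _ = _ := by rw [h.t_sq, mul_one]
      rw [e3]
      rcases hp1 with h3 | h3 <;> rcases hp2 with h4 | h4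
      · exfalso; apply hab; rw [e1, e2, h3, h4]
      · rw [h3, h4, ta_tb]
      · rw [h3, h4, show tb * ta = sg by decide +kernel]
      · exfalso; apply hab; rw [e1, e2, h3, h4]
    obtain ⟨b, hbdef⟩ : ∃ b, b = t * t1 * t2 := ⟨_, rfl⟩
    rw [← hbdef] at hprod
    have hxb : x * b = b * x := by
      have h3 : x * b * x⁻¹ = t1 * t2 * t := by
        have e6 : ∀ u v w : G, x * (u * v * w) * x⁻¹ = (x * u * x⁻¹) * (x * v * x⁻¹) * (x * w * x⁻¹) := by
          intro u v w; group
        rw [hbdef, e6, hx2]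
      have h4 : t1 * t2 * t = b := by
        have c1 : t * t1 = t1 * t := by
          have := h.mul_t_comm (a := 1) (b := π1) (by simp)
          rw [map_one, one_mul, ← e1] at this
          exact this
        have c2 : t * t2 = t2 * t := by
          have := h.mul_t_comm (a := 1) (b := π2) (by simp)
          rw [map_one, one_mul, ← e2] at this
          exact this
        calc t1 * t2 * t = t1 * (t2 * t) := mul_assoc t1 t2 t
          _ = t1 * (t * t2) := by rw [c2]
          _ = (t1 * t) * t2 := (mul_assoc t1 t t2).symm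
          _ = (t * t1) * t2 := by rw [c1]
          _ = b := by rw [hbdef]
      rw [h4] at h3
      exact mul_inv_eq_iff_eq_mul.1 h3
    have hbb : b * b = 1 := by
      rw [hprod]
      calc (φ sg * t) * (φ sg * t) = φ sg * (t * φ sg) * t := by group
        _ = φ sg * φ sg * (t * t) := by rw [← h.comm]; group
        _ = 1 := by rw [h.t_sq, mul_one, Emb.sg_sq]
    have hbN : b ∉ N := by
      intro hbN
      rw [hprod] at hbN
      apply h.t_notMem
      have := N.mul_mem (N.inv_mem (h.mem sg)) hbN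
      rwa [inv_mul_cancel_left] at this
    obtain ⟨y, hy⟩ := isConj_iff.1 (H17.O168.isConj_three hc h.orderOf_th hρ')
    set t' : G := y * t * (y : G)⁻¹ with ht'
    have hyx : (y : G) * φ th * (y : G)⁻¹ = x := congrArg Subtype.val hy
    have hxt' : x * t' = t' * x := by
      rw [← hyx, ht']
      calc (y : G) * φ th * (y : G)⁻¹ * (y * t * (y : G)⁻¹) = y * (φ th * t) * (y : G)⁻¹ := by group
        _ = y * (t * φ th) * (y : G)⁻¹ := by rw [h.comm]
        _ = _ := by group
    have ht'N : t' ∉ N := by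
      intro hc'
      apply h.t_notMem
      have := hNn.conj_mem _ hc' (y : G)⁻¹
      simpa [ht', mul_assoc] using this
    have htt' : t' * t' = 1 := by
      have : t' * t' = y * (t * t) * (y : G)⁻¹ := by rw [ht']; group
      rw [this, h.t_sq]; simp
    have huN : b * t' ∈ N := (Subgroup.mul_mem_iff_of_index_two h.idx).2
      ⟨fun h1 => absurd h1 hbN, fun h1 => absurd h1 ht'N⟩
    have hxbt : x * (b * t') = (b * t') * x := by
      calc x * (b * t') = (x * b) * t' := (mul_assoc x b t').symm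
        _ = (b * x) * t' := by rw [hxb]
        _ = b * (x * t') := mul_assoc b x t'
        _ = b * (t' * x) := by rw [hxt']
        _ = (b * t') * x := (mul_assoc b t' x).symm
    have hcc : Commute ρ (⟨b * t', huN⟩ : N) := Subtype.ext hxbt
    have hu := H17.O168.mem_zpowers_of_commute3 hc hρ' hcc
    rw [Subgroup.mem_zpowers_iff] at hu
    obtain ⟨k, hk⟩ := hu
    have hk' : x ^ k = b * t' := congrArg Subtype.val hk
    have hct : t' * (b * t') = (b * t') * t' := by
      rw [← hk']
      exact (Commute.zpow_right (show Commute t' x from hxt'.symm) k)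
    have hu2 : (b * t') * (b * t') = 1 := by
      calc (b * t') * (b * t') = b * (t' * (b * t')) := by group
        _ = b * ((b * t') * t') := by rw [hct]
        _ = (b * b) * (t' * t') := by group
        _ = 1 := by rw [hbb, htt', one_mul]
    have hu3 : (b * t') * (b * t') * (b * t') = 1 := by
      rw [← hk', ← zpow_add, ← zpow_add]
      have : k + k + k = 3 * k := by ring
      rw [this, zpow_mul]
      have h5 : x ^ (3 : ℤ) = 1 := by
        have : x ^ (3 : ℤ) = x * x * x := by
          rw [show (3 : ℤ) = ((3 : ℕ) : ℤ) by norm_num, zpow_natCast, pow_succ, pow_two]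
        rw [this, hx3]
      rw [h5, one_zpow]
    have hu1 : b * t' = 1 := by rwa [hu2, one_mul] at hu3
    have hbt : b = t' := by
      rw [mul_eq_one_iff_eq_inv] at hu1
      rw [hu1]
      exact inv_eq_of_mul_eq_one_left htt'
    apply hts
    rw [← hprod, hbt]
    exact isConj_iff.2 ⟨y, rfl⟩
  obtain ⟨π, hπ⟩ := h.eq_of_mem hxN hcomm
  have hπ3 : π * π * π = 1 := by
    apply h.inj
    rw [map_mul, map_mul, ← hπ, hx3, map_one]
  have hf : ∀ a : P4, a ≠ 1 → (a = 1 ∨ a = sg ∨ a = ta ∨ a = tb) →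
      π * a * π⁻¹ = sg ∨ π * a * π⁻¹ = ta ∨ π * a * π⁻¹ = tb := by
    intro a ha1 ha
    obtain ⟨a', ha', he⟩ := hconj a ha
    rw [hπ, ← map_inv, ← map_mul, ← map_mul] at he
    have h3 := h.inj he
    rw [h3]
    rcases ha' with h4 | h4
    · exfalso
      apply ha1
      rw [h4] at h3
      have := congrArg (fun v => π⁻¹ * v * π) h3
      simpa [mul_assoc] using this
    · exact h4
  have hπ1 := no_three_four π hπ3 (hf sg (by decide) (by tauto)) (hf ta (by decide) (by tauto))
  rw [hπ1, map_one] at hπ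
  have : ρ = 1 := Subtype.ext hπ
  rw [this, orderOf_one] at hρ'
  omega

end Emb2

end Cfsg.Agent.DihSyl.Six
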