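import Mathlib
import Cfsg.Agent.DihSyl.SixMain

/-!
# Recognition of `S₆`
-/

set_option autoImplicit false
set_option linter.style.haveILetI false
set_option linter.unusedSectionVars false

namespace Cfsg.Agent.DihSyl.Six

open Subgroup Equiv

universe u

/-- Elements of order 3 of `A₆`. -/
theorem cycleType_of_order_three {x : Perm (Fin 6)} (hx : orderOf x = 3) :
    x.IsThreeCycle ∨ x.cycleType = {3, 3} := by
  obtain ⟨n, hn⟩ := Perm.cycleType_prime_order (σ := x) (by rw [hx]; norm_num)
  rw [hx] at hn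
  have h1 := Perm.sum_cycleType_le x
  rw [hn, Multiset.sum_replicate, Fintype.card_fin, smul_eq_mul] at h1
  have h2 : n = 0 ∨ n = 1 := by omega
  rcases h2 with rfl | rfl
  · left
    show x.cycleType = {3}
    rw [hn]; rfl
  · right
    rw [hn]; rfl

def x0 : Perm (Fin 6) := (swap 0 1 * swap 1 2) * (swap 3 4 * swap 4 5)
def z0 : Perm (Fin 6) := swap 0 3 * swap 1 4 * swap 2 5

theorem x0_type : x0.cycleType = {3, 3} := by decide +kernel
theorem z0_x0 : z0 * x0 = x0 * z0 := by decide +kernel
theorem z0_sign : Perm.sign z0 = -1 := by decide +kernel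

theorem isConj_of_double {x y : alternatingGroup (Fin 6)} (hx : (x : Perm (Fin 6)).cycleType = {3, 3})
    (hy : (y : Perm (Fin 6)).cycleType = {3, 3}) : IsConj x y := by
  obtain ⟨g, hg⟩ := isConj_iff.1 (Equiv.Perm.isConj_iff_cycleType_eq.2 (hx.trans hy.symm))
  obtain ⟨k, hk⟩ := isConj_iff.1 (Equiv.Perm.isConj_iff_cycleType_eq.2 (x0_type.trans hx.symm))
  rcases Int.units_eq_one_or (Perm.sign g) with h1 | h1
  · exact isConj_iff.2 ⟨⟨g, Perm.mem_alternatingGroup.2 h1⟩, Subtype.ext hg⟩
  · set z := k * z0 * k⁻¹ with hz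
    have hzx : z * (x : Perm (Fin 6)) * z⁻¹ = x := by
      rw [← hk, hz]
      calc k * z0 * k⁻¹ * (k * x0 * k⁻¹) * (k * z0 * k⁻¹)⁻¹ = k * (z0 * x0 * z0⁻¹) * k⁻¹ := by group
        _ = k * x0 * k⁻¹ := by rw [z0_x0, mul_inv_cancel_right]
    have hzs : Perm.sign z = -1 := by
      rw [hz, Perm.sign_mul, Perm.sign_mul, Perm.sign_inv, z0_sign]
      rcases Int.units_eq_one_or (Perm.sign k) with h2 | h2 <;> simp [h2]
    have hgz : Perm.sign (g * z) = 1 := by
      rw [Perm.sign_mul, h1, hzs]; simp
    refine isConj_iff.2 ⟨⟨g * z, Perm.mem_alternatingGroup.2 hgz⟩, Subtype.ext ?_⟩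
    show g * z * x * (g * z)⁻¹ = y
    have : g * z * x * (g * z)⁻¹ = g * (z * x * z⁻¹) * g⁻¹ := by group
    rw [this, hzx, hg]

/-- An automorphism of `A₆` fixing an element of order three preserves 3-cycles. -/
theorem threeCycle_of_fix (f : MulAut (alternatingGroup (Fin 6))) {c : alternatingGroup (Fin 6)}
    (hc : orderOf c = 3) (hfc : f c = c) (a : alternatingGroup (Fin 6))
    (ha : (a : Perm (Fin 6)).IsThreeCycle) : (f a : Perm (Fin 6)).IsThreeCycle := by
  have key : ∀ {x y : alternatingGroup (Fin 6)}, IsConj x y →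
      (x : Perm (Fin 6)).cycleType = (y : Perm (Fin 6)).cycleType := by
    intro x y hxy
    obtain ⟨g, rfl⟩ := isConj_iff.1 hxy
    symm
    exact Perm.cycleType_conj
  have hc' : orderOf (c : Perm (Fin 6)) = 3 := by rw [Subgroup.orderOf_coe, hc]
  rcases cycleType_of_order_three hc' with h1 | h1
  · have h2 : IsConj c a := alternatingGroup.isThreeCycle_isConj (by simp) h1 ha
    have h3 : IsConj (f c) (f a) := by
      obtain ⟨g, rfl⟩ := isConj_iff.1 h2
      exact isConj_iff.2 ⟨f g, by simp⟩
    rw [hfc] at h3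
    show (f a : Perm (Fin 6)).cycleType = {3}
    rw [← key h3]
    exact h1
  · have h4 : orderOf ((f a : alternatingGroup (Fin 6)) : Perm (Fin 6)) = 3 := by
      rw [Subgroup.orderOf_coe, MulEquiv.orderOf_eq, ← Subgroup.orderOf_coe]
      exact ha.orderOf
    rcases cycleType_of_order_three h4 with h5 | h5
    · exact h5
    · exfalso
      have h6 : IsConj c (f a) := isConj_of_double h1 h5
      have h7 : IsConj c a := by
        rw [← hfc] at h6
        obtain ⟨g, hg⟩ := isConj_iff.1 h6
        refine isConj_iff.2 ⟨f.symm g, ?_⟩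
        apply f.injective
        rw [map_mul, map_mul, map_inv, MulEquiv.apply_symm_apply]
        exact hg
      have h8 := key h7
      rw [h1, show (a : Perm (Fin 6)).cycleType = {3} from ha] at h8
      exact absurd h8 (by decide)

variable {G : Type u} [Group G] [Finite G] {t : G} {φ : P4 →* G} {N : Subgroup G}

theorem Emb2.case_360 (h : Emb2 t φ N) [IsSimpleGroup N] (e : N ≃* alternatingGroup (Fin 6)) :
    Nonempty (G ≃* Perm (Fin 6)) := by
  haveI hNn : N.Normal := Subgroup.normal_of_index_eq_two h.idx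
  have hN : Nat.card N = 360 := by
    rw [Nat.card_congr e.toEquiv]
    have h5 := two_mul_nat_card_alternatingGroup (α := Fin 6)
    rw [Nat.card_perm, Nat.card_fin] at h5
    have h6 : (6 : ℕ).factorial = 720 := by decide
    omega
  have hG : Nat.card G = 720 := by have := h.card_N; omega
  have hne : Subgroup.centralizer ({t} : Set G) ≠ ⊤ := by
    intro hc
    have h1 := h.card_cent
    rw [hc, Subgroup.card_top, hG] at h1
    omega
  set f : G →* MulAut (alternatingGroup (Fin 6)) :=
    (MulAut.congr e).toMonoidHom.comp MulAut.conjNormal with hf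
  have hfe : ∀ (x : G) (a : alternatingGroup (Fin 6)), f x a = e (MulAut.conjNormal x (e.symm a)) := by
    intro x a; rfl
  -- injectivity
  have hinj : Function.Injective f := by
    rw [injective_iff_map_eq_one]
    intro x hx
    have h1 : ∀ n : N, x * n * x⁻¹ = n := by
      intro n
      have h2 := congrArg (fun (m : MulAut (alternatingGroup (Fin 6))) => e.symm (m (e n))) hx
      simp only [hfe, MulEquiv.symm_apply_apply, MulAut.one_apply] at h2
      rw [← MulAut.conjNormal_apply, h2]
    have h3 : x ∈ Subgroup.center G := by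
      have hc1 : ∀ n ∈ N, x * n = n * x := fun n hn => mul_inv_eq_iff_eq_mul.1 (h1 ⟨n, hn⟩)
      have hxt : x * t = t * x := h.cs x (hc1 _ (h.mem sg))
      rw [Subgroup.mem_center_iff]
      intro g
      by_cases hg : g ∈ N
      · exact (hc1 g hg).symm
      · have h4 : t * g ∈ N := (Subgroup.mul_mem_iff_of_index_two h.idx).2
          ⟨fun h5 => absurd h5 h.t_notMem, fun h5 => absurd h5 hg⟩
        have h5 := hc1 _ h4
        rw [← mul_assoc, hxt, mul_assoc, mul_assoc] at h5
        exact (mul_left_cancel h5).symm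
    rw [h.center_eq_bot hne, mem_bot] at h3
    exact h3
  -- three-cycles
  have hN3 : ∀ x ∈ N, ∀ a : alternatingGroup (Fin 6), (a : Perm (Fin 6)).IsThreeCycle →
      (f x a : Perm (Fin 6)).IsThreeCycle := by
    intro x hx a ha
    have h1 : f x a = e ⟨x, hx⟩ * a * (e ⟨x, hx⟩)⁻¹ := by
      rw [hfe]
      have h2 : MulAut.conjNormal x (e.symm a) = ⟨x, hx⟩ * e.symm a * (⟨x, hx⟩ : N)⁻¹ := by
        apply Subtype.ext
        rw [MulAut.conjNormal_apply]
        rfl
      rw [h2, map_mul, map_mul, map_inv, MulEquiv.apply_symm_apply]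
    rw [h1]
    show ((e ⟨x, hx⟩ : Perm (Fin 6)) * a * (e ⟨x, hx⟩ : Perm (Fin 6))⁻¹).cycleType = {3}
    rw [Perm.cycleType_conj]
    exact ha
  have ht3 : ∀ a : alternatingGroup (Fin 6), (a : Perm (Fin 6)).IsThreeCycle →
      (f t a : Perm (Fin 6)).IsThreeCycle := by
    apply threeCycle_of_fix (c := e (h.toN th))
    · rw [MulEquiv.orderOf_eq, h.orderOf_th]
    · rw [hfe, MulEquiv.symm_apply_apply]
      congr 1
      apply Subtype.ext
      rw [MulAut.conjNormal_apply, h.coe_toN, ← h.comm, mul_inv_cancel_right]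
  have hall : ∀ x : G, ∀ a : alternatingGroup (Fin 6), (a : Perm (Fin 6)).IsThreeCycle →
      (f x a : Perm (Fin 6)).IsThreeCycle := by
    intro x a ha
    by_cases hx : x ∈ N
    · exact hN3 x hx a ha
    · have h4 : t * x ∈ N := (Subgroup.mul_mem_iff_of_index_two h.idx).2
          ⟨fun h5 => absurd h5 h.t_notMem, fun h5 => absurd h5 hx⟩
      have h5 : x = t * (t * x) := by rw [← mul_assoc, h.t_sq, one_mul]
      rw [h5, map_mul]
      exact ht3 _ (hN3 _ h4 a ha)
  have hrange : f.range ≤ (MulAut.conjNormal : Perm (Fin 6) →* MulAut (alternatingGroup (Fin 6))).range := by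
    rintro _ ⟨x, rfl⟩
    obtain ⟨τ, hτ⟩ := AutAlt.exists_conj (by decide) (f x) (hall x)
    refine ⟨τ, ?_⟩
    ext g : 2
    rw [MulAut.conjNormal_apply, hτ g]
  have hcinj : Function.Injective (MulAut.conjNormal : Perm (Fin 6) →* MulAut (alternatingGroup (Fin 6))) :=
    AutAlt.conjNormal_injective (by decide)
  have hcard1 : Nat.card f.range = 720 := by
    rw [← Nat.card_congr (MonoidHom.ofInjective hinj).toEquiv, hG]
  have hcard2 : Nat.card (MulAut.conjNormal : Perm (Fin 6) →* MulAut (alternatingGroup (Fin 6))).range = 720 := by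
    rw [← Nat.card_congr (MonoidHom.ofInjective hcinj).toEquiv, Nat.card_perm, Nat.card_fin]
    decide
  have heq := Subgroup.eq_of_le_of_card_ge hrange (by rw [hcard1, hcard2])
  exact ⟨((MonoidHom.ofInjective hinj).trans (MulEquiv.subgroupCongr heq)).trans
    (MonoidHom.ofInjective hcinj).symm⟩

end Cfsg.Agent.DihSyl.Six
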