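import Mathlib
import Cfsg.Agent.DihSyl.SixA6

/-!
# Construction of the embedding of `S₄`
-/

set_option autoImplicit false
set_option linter.style.haveILetI false
set_option linter.unusedSectionVars false

namespace Cfsg.Agent.DihSyl.Six

open Subgroup Equiv

universe u

variable {G : Type u} [Group G] [Finite G] {t : G}

theorem exists_preEmb (ht : orderOf t = 2)
    (e : ↥(Subgroup.centralizer ({t} : Set G)) ≃* (Multiplicative (ZMod 2) × Equiv.Perm (Fin 4))) :
    ∃ φ : P4 →* G, PreEmb t φ := by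
  set C := Subgroup.centralizer ({t} : Set G) with hC
  have htC : t ∈ C := by rw [hC, mem_centralizer_singleton_iff]
  set f : Multiplicative (ZMod 2) × Equiv.Perm (Fin 4) →* G := C.subtype.comp e.symm.toMonoidHom with hf
  have hfinj : Function.Injective f := C.subtype_injective.comp e.symm.injective
  have hfC : ∀ x, f x ∈ C := fun x => (e.symm x).2
  have hft : f (e ⟨t, htC⟩) = t := by
    show ((e.symm (e ⟨t, htC⟩) : C) : G) = t
    rw [MulEquiv.symm_apply_apply]
  have hcomm : ∀ x, f x * t = t * f x := fun x => mem_centralizer_singleton_iff.1 (hfC x)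
  rcases hab : e ⟨t, htC⟩ with ⟨a, b⟩
  rw [hab] at hft
  have hb : b = 1 := by
    apply center_P4
    intro ρ
    have h1 := hcomm (1, ρ)
    rw [← hft, ← map_mul, ← map_mul] at h1
    have h2 := hfinj h1
    exact (Prod.ext_iff.1 h2).2.symm
  have ht1 : t ≠ 1 := by rintro rfl; rw [orderOf_one] at ht; omega
  have ha : a = Multiplicative.ofAdd 1 := by
    have h1 : a ≠ 1 := by
      intro h1
      apply ht1
      rw [← hft, hb, h1]
      exact map_one f
    revert h1
    have : ∀ c : Multiplicative (ZMod 2), c ≠ 1 → c = Multiplicative.ofAdd 1 := by decide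
    exact this a
  set φ : P4 →* G := f.comp (MonoidHom.inr _ _) with hφ
  have hφe : ∀ π, φ π = f (1, π) := fun π => rfl
  refine ⟨φ, ⟨?_, ?_, ht, ?_, ?_⟩⟩
  · intro x y hxy
    have h1 := hfinj hxy
    exact (Prod.ext_iff.1 h1).2
  · intro π; exact hcomm _
  · intro π hπ
    rw [hφe, ← hft] at hπ
    have h1 := (Prod.ext_iff.1 (hfinj hπ)).1
    change (1 : Multiplicative (ZMod 2)) = a at h1
    rw [ha] at h1
    exact absurd h1 (by decide)
  · intro x hx
    have hxC : x ∈ C := mem_centralizer_singleton_iff.2 hx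
    have hfx : f (e ⟨x, hxC⟩) = x := by
      show ((e.symm (e ⟨x, hxC⟩) : C) : G) = x
      rw [MulEquiv.symm_apply_apply]
    rcases hcπ : e ⟨x, hxC⟩ with ⟨c, π⟩
    rw [hcπ] at hfx
    refine ⟨π, ?_⟩
    have : ∀ c : Multiplicative (ZMod 2), c = 1 ∨ c = Multiplicative.ofAdd 1 := by decide
    rcases this c with h1 | h1
    · left; rw [← hfx, h1, hφe]
    · right
      rw [← hfx, h1, hφe, ← hft, ← map_mul, ha, hb]
      congr 1

theorem exists_emb {φ : P4 →* G} (h : PreEmb t φ) (T : Sylow 2 G)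
    (htc : ∀ s ∈ (T : Subgroup G), s * t = t * s)
    (h2 : ∀ S : Sylow 2 G, Subgroup.centralizer ((⁅(S : Subgroup G), (S : Subgroup G)⁆ : Subgroup G) : Set G) = (S : Subgroup G)) :
    Emb t φ ∧ ∃ T : Sylow 2 G, (T : Subgroup G) = Subgroup.centralizer ({φ sg} : Set G) := by
  haveI : Fact (Nat.Prime 2) := ⟨Nat.prime_two⟩
  have hne : ∀ {a b : P4}, φ a * t ≠ φ b := by
    intro a b hc
    apply h.notMem (a⁻¹ * b)
    rw [map_mul, ← hc, map_inv, inv_mul_cancel_left]
  have hmem : ∀ x : G, x * t = t * x ↔ ∃ π, x = φ π ∨ x = φ π * t := by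
    intro x
    constructor
    · exact h.surj x
    · rintro ⟨π, rfl | rfl⟩
      · exact h.comm π
      · rw [h.comm, mul_assoc, h.comm]
  -- the subgroup `C(t) ∩ C(s)`
  set C1 : Subgroup G := Subgroup.centralizer ({t} : Set G) ⊓ Subgroup.centralizer ({φ sg} : Set G) with hC1
  have hC1mem : ∀ x, x ∈ C1 ↔ ∃ π, π * sg = sg * π ∧ (x = φ π ∨ x = φ π * t) := by
    intro x
    rw [hC1, Subgroup.mem_inf, mem_centralizer_singleton_iff, mem_centralizer_singleton_iff, hmem]
    constructor
    · rintro ⟨⟨π, hx⟩, hc⟩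
      refine ⟨π, ?_, hx⟩
      apply h.inj
      rw [map_mul, map_mul]
      rcases hx with rfl | rfl
      · exact hc
      · have h1 : φ π * t * φ sg = φ π * φ sg * t := by rw [mul_assoc, ← h.comm, mul_assoc]
        have h2 : φ sg * (φ π * t) = φ sg * φ π * t := by rw [mul_assoc]
        rw [h1, h2] at hc
        exact mul_right_cancel hc
    · rintro ⟨π, hπ, hx⟩
      refine ⟨⟨π, hx⟩, ?_⟩
      rcases hx with rfl | rfl
      · rw [← map_mul, ← map_mul, hπ]
      · rw [mul_assoc, ← h.comm, ← mul_assoc, ← mul_assoc, ← map_mul, ← map_mul, hπ]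
  have hcard1 : Nat.card C1 = 16 := by
    have e : (Bool × {π : P4 // π * sg = sg * π}) ≃ C1 := by
      refine Equiv.ofBijective (fun p => ⟨cond p.1 (φ p.2) (φ p.2 * t), ?_⟩) ⟨?_, ?_⟩
      · rw [hC1mem]
        refine ⟨p.2, p.2.2, ?_⟩
        cases p.1
        · exact Or.inr rfl
        · exact Or.inl rfl
      · rintro ⟨a, x⟩ ⟨b, y⟩ hxy
        have h1 := congrArg Subtype.val hxy
        cases a <;> cases b
        · have h2 : φ x * t = φ y * t := h1
          rw [Subtype.ext (h.inj (mul_right_cancel h2))]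
        · exact absurd h1 hne
        · exact absurd (Eq.symm h1) hne
        · have h2 : φ x = φ y := h1
          rw [Subtype.ext (h.inj h2)]
      · rintro ⟨x, hx⟩
        rw [hC1mem] at hx
        obtain ⟨π, hπ, rfl | rfl⟩ := hx
        · exact ⟨(true, ⟨π, hπ⟩), rfl⟩
        · exact ⟨(false, ⟨π, hπ⟩), rfl⟩
    rw [← Nat.card_congr e, Nat.card_prod, Nat.card_eq_fintype_card (α := {π : P4 // _}), card_cs_P4]
    simp
  have hcardt : Nat.card (Subgroup.centralizer ({t} : Set G)) = 48 := by
    have e : (Bool × P4) ≃ Subgroup.centralizer ({t} : Set G) := by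
      refine Equiv.ofBijective (fun p => ⟨cond p.1 (φ p.2) (φ p.2 * t), ?_⟩) ⟨?_, ?_⟩
      · rw [mem_centralizer_singleton_iff, hmem]
        refine ⟨p.2, ?_⟩
        cases p.1
        · exact Or.inr rfl
        · exact Or.inl rfl
      · rintro ⟨a, x⟩ ⟨b, y⟩ hxy
        have h1 := congrArg Subtype.val hxy
        cases a <;> cases b
        · have h2 : φ x * t = φ y * t := h1
          rw [h.inj (mul_right_cancel h2)]
        · exact absurd h1 hne
        · exact absurd (Eq.symm h1) hne
        · have h2 : φ x = φ y := h1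
          rw [h.inj h2]
      · rintro ⟨x, hx⟩
        rw [mem_centralizer_singleton_iff, hmem] at hx
        obtain ⟨π, rfl | rfl⟩ := hx
        · exact ⟨(true, π), rfl⟩
        · exact ⟨(false, π), rfl⟩
    rw [← Nat.card_congr e, Nat.card_prod, Nat.card_perm, Nat.card_fin]
    simp
    decide
  have hTC : (T : Subgroup G) ≤ Subgroup.centralizer ({t} : Set G) := by
    intro x hx
    rw [mem_centralizer_singleton_iff]
    exact htc x hx
  have hcardT : Nat.card (T : Subgroup G) = 16 := by
    obtain ⟨k, hk⟩ := IsPGroup.iff_card.1 T.isPGroup'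
    have h3 := Subgroup.card_dvd_of_le hTC
    have h4 : Nat.card C1 ∣ Nat.card (T : Subgroup G) := by
      have h5 : 2 ^ 4 ∣ Nat.card G := by
        have : Nat.card C1 ∣ Nat.card G := Subgroup.card_subgroup_dvd_card C1
        rw [hcard1] at this
        exact this
      have h6 := T.pow_dvd_card_of_pow_dvd_card h5
      rw [hcard1]
      exact h6
    rw [hcard1] at h4
    rw [hcardt, hk] at h3
    rw [hk] at h4 ⊢
    have h5 : k ≤ 4 := by
      by_contra hcon
      push Not at hcon
      have : 2 ^ 5 ∣ 48 := (pow_dvd_pow 2 hcon).trans h3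
      revert this; decide
    have h6 : 4 ≤ k := by
      have : 2 ^ 4 ∣ 2 ^ k := h4
      exact (Nat.pow_dvd_pow_iff_le_right (by norm_num)).1 this
    have : k = 4 := le_antisymm h5 h6
    rw [this]; rfl
  have hC1p : IsPGroup 2 C1 := IsPGroup.of_card (n := 4) (by rw [hcard1]; rfl)
  obtain ⟨P, hP⟩ := hC1p.exists_le_sylow
  have hPC : C1 = (P : Subgroup G) := by
    apply Subgroup.eq_of_le_of_card_ge hP
    rw [hcard1, ← hcardT]
    exact (Nat.card_congr (Sylow.equiv P T).toEquiv).le
  have hcs : ∀ x, x * φ sg = φ sg * x → x * t = t * x := by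
    intro x hx
    have h3 : ⁅(P : Subgroup G), (P : Subgroup G)⁆ ≤ zpowers (φ sg) := by
      rw [Subgroup.commutator_le]
      intro a ha b hb
      rw [← hPC, hC1mem] at ha hb
      obtain ⟨π, hπ, ha'⟩ := ha
      obtain ⟨ρ, hρ, hb'⟩ := hb
      rcases h.comm_T hπ hρ ha' hb' with h4 | h4
      · rw [commutatorElement_def, h4]; exact one_mem _
      · rw [commutatorElement_def, h4]; exact mem_zpowers _
    have h4 : x ∈ Subgroup.centralizer ((⁅(P : Subgroup G), (P : Subgroup G)⁆ : Subgroup G) : Set G) := by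
      rw [Subgroup.mem_centralizer_iff]
      intro y hy
      obtain ⟨k, rfl⟩ := h3 hy
      exact (Commute.zpow_left (show Commute (φ sg) x from hx.symm) k)
    rw [h2 P, ← hPC, hC1, Subgroup.mem_inf, mem_centralizer_singleton_iff] at h4
    exact h4.1
  refine ⟨⟨h, hcs⟩, P, ?_⟩
  rw [← hPC, hC1]
  apply inf_eq_right.2
  intro x hx
  rw [mem_centralizer_singleton_iff] at hx ⊢
  exact hcs x hx

/-- The theorem, with the orders and the identification of the simple groups as input. -/
theorem main (hord : ∀ (N : Subgroup G) (z : N), commutator N = ⊤ → orderOf z = 2 →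
      Nonempty (Subgroup.centralizer ({z} : Set N) ≃* DihedralGroup 4) → Nat.card N = 168 ∨ Nat.card N = 360)
    (h360 : ∀ (N : Subgroup G), IsSimpleGroup N → Nat.card N = 360 → Nonempty (N ≃* alternatingGroup (Fin 6)))
    (ht : orderOf t = 2) (T : Sylow 2 G) (htc : ∀ s ∈ (T : Subgroup G), s * t = t * s)
    (e : ↥(Subgroup.centralizer ({t} : Set G)) ≃* (Multiplicative (ZMod 2) × Equiv.Perm (Fin 4)))
    (h2 : ∀ S : Sylow 2 G, Subgroup.centralizer ((⁅(S : Subgroup G), (S : Subgroup G)⁆ : Subgroup G) : Set G) = (S : Subgroup G)) :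
    Subgroup.centralizer ({t} : Set G) = ⊤ ∨ (Nonempty (G ≃* Equiv.Perm (Fin 6))) := by
  obtain ⟨φ, hp⟩ := exists_preEmb ht e
  obtain ⟨h, T, hT⟩ := exists_emb hp T htc h2
  obtain ⟨N, hNn, hN, htN⟩ := h.exists_index_two hT
  obtain ⟨ψ, hψ⟩ := h.exists_emb2 hN htN
  obtain ⟨T', hT'⟩ : ∃ T : Sylow 2 G, (T : Subgroup G) = Subgroup.centralizer ({ψ sg} : Set G) :=
    (exists_emb hψ.toEmb.toPreEmb T (by
      intro s hs
      rw [hT, mem_centralizer_singleton_iff] at hs
      exact h.cs s hs) h2).2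
  by_cases hM : ∃ M : Subgroup N, M.index = 2
  · obtain ⟨M, hM⟩ := hM
    exact Or.inl (hψ.case_index_two hM)
  push Not at hM
  right
  obtain ⟨S, r, s, hD, hF⟩ := hψ.exists_data
  haveI := hD.simple hF hM
  rcases hord N _ (hD.perfect hM) hψ.orderOf_s hψ.exists_dihedral with h3 | h3
  · exact (hψ.not_card_168 h3 hT').elim
  · obtain ⟨e6⟩ := h360 N inferInstance h3
    exact hψ.case_360 e6

end Cfsg.Agent.DihSyl.Six
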